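import Mathlib
import Groth.Agent.AlgSpLib.MonoScheme
/-!
# Étale localisation of unramified morphisms at finitely many points (Stacks 04HL)
-/

set_option autoImplicit false
universe u
open CategoryTheory CategoryTheory.Limits AlgebraicGeometry

namespace EtLocLib

theorem locallyQuasiFinite {X S : Scheme.{u}} (f : X ⟶ S) [LocallyOfFiniteType f]
    [FormallyUnramified f] : LocallyQuasiFinite f := by
  rw [HasRingHomProperty.iff_appLE (P := @LocallyQuasiFinite)]
  intro U V e
  have h1 := HasRingHomProperty.appLE @FormallyUnramified f inferInstance U V e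
  have h2 := HasRingHomProperty.appLE @LocallyOfFiniteType f inferInstance U V e
  algebraize [(f.appLE U.1 V.1 e).hom]
  show Algebra.QuasiFinite _ _
  infer_instance

theorem isOpenImmersion_of_comp {A B C : Scheme.{u}} (Γ : A ⟶ B) (π : B ⟶ C) [Etale π]
    [IsOpenImmersion (Γ ≫ π)] : IsOpenImmersion Γ := by
  haveI : Etale Γ := Etale.of_comp Γ π
  haveI : Mono Γ := mono_of_mono Γ π
  exact IsOpenImmersion.of_flat_of_mono Γ

variable {X S : Scheme.{u}} (f : X ⟶ S)

theorem exists_preimage {P A B C : Scheme.{u}} {a : P ⟶ A} {b : P ⟶ B} {c : A ⟶ C} {d : B ⟶ C}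
    (h : IsPullback a b c d) (x : A) (y : B) (e : c.base x = d.base y) :
    ∃ v : P, a.base v = x ∧ b.base v = y := by
  obtain ⟨v, h1, h2⟩ := Scheme.Pullback.exists_preimage_pullback (f := c) (g := d) x y e
  exact ⟨h.isoPullback.inv.base v, by rw [← Scheme.Hom.comp_apply, h.isoPullback_inv_fst, h1],
    by rw [← Scheme.Hom.comp_apply, h.isoPullback_inv_snd, h2]⟩

/-- The canonical map to the pullback along the smaller base. -/
noncomputable abbrev proj {U U' : Scheme.{u}} (g : U ⟶ S) (h : U' ⟶ U) :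
    pullback f (h ≫ g) ⟶ pullback f g :=
  pullback.lift (pullback.fst _ _) (pullback.snd _ _ ≫ h)
    (by rw [Category.assoc, pullback.condition])

theorem isPullback_proj {U U' : Scheme.{u}} (g : U ⟶ S) (h : U' ⟶ U) :
    IsPullback (proj f g h) (pullback.snd f (h ≫ g)) (pullback.snd f g) h := by
  refine IsPullback.of_right ?_ (pullback.lift_snd _ _ _) (IsPullback.of_hasPullback f g)
  rw [pullback.lift_fst]
  exact IsPullback.of_hasPullback f (h ≫ g)

theorem isPullback_preimage {U U' : Scheme.{u}} (g : U ⟶ S) (h : U' ⟶ U)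
    (V : (pullback f g).Opens) :
    IsPullback (proj f g h ∣_ V) (((proj f g h) ⁻¹ᵁ V).ι ≫ pullback.snd f (h ≫ g))
      (V.ι ≫ pullback.snd f g) h :=
  (isPullback_morphismRestrict (proj f g h) V).paste_vert (isPullback_proj f g h)

theorem isClosedImmersion_preimage {U U' : Scheme.{u}} (g : U ⟶ S) (h : U' ⟶ U)
    (V : (pullback f g).Opens) (hV : IsClosedImmersion (V.ι ≫ pullback.snd f g)) :
    IsClosedImmersion (((proj f g h) ⁻¹ᵁ V).ι ≫ pullback.snd f (h ≫ g)) :=
  MorphismProperty.of_isPullback (isPullback_preimage f g h V) hV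

/-- The unramified and étale loci, given by opens. -/
def UnramOn (W : X.Opens) : Prop :=
  LocallyOfFiniteType (W.ι ≫ f) ∧ FormallyUnramified (W.ι ≫ f)

/-- One étale localisation makes a geometric point lie on a closed immersion. -/
theorem exists_step {U : Scheme.{u}} (g : U ⟶ S) {W : X.Opens} (hW : UnramOn f W)
    {Ω : Scheme.{u}} [Subsingleton Ω] (z : Ω) (p : Ω ⟶ X) (ω : Ω ⟶ U) (hp : p ≫ f = ω ≫ g)
    (hpW : p.base z ∈ W) :
    ∃ (U' : Scheme.{u}) (h : U' ⟶ U) (_ : Etale h) (ω' : Ω ⟶ U') (hω : ω' ≫ h = ω)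
      (V : (pullback f (h ≫ g)).Opens),
      IsClosedImmersion (V.ι ≫ pullback.snd f (h ≫ g)) ∧ V ≤ pullback.fst f (h ≫ g) ⁻¹ᵁ W ∧
      (pullback.lift p ω' (by rw [hp, ← hω, Category.assoc])).base z ∈ V := by
  haveI := hW.1; haveI := hW.2
  have hrange : Set.range p.base ⊆ Set.range W.ι.base := by
    rintro _ ⟨a, rfl⟩; rw [Subsingleton.elim a z, Scheme.Opens.range_ι]; exact hpW
  let p0 : Ω ⟶ W := IsOpenImmersion.lift W.ι p hrange
  let y : Ω ⟶ pullback (W.ι ≫ f) g := pullback.lift p0 ω (by rw [IsOpenImmersion.lift_fac_assoc, hp])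
  obtain ⟨_, ⟨U0 : U.Opens, hU0, rfl⟩, hu0, -⟩ :=
    U.isBasis_affineOpens.exists_subset_of_mem_open (Set.mem_univ (ω.base z)) isOpen_univ
  let snd := pullback.snd (W.ι ≫ f) g
  obtain ⟨_, ⟨Y0 : (pullback (W.ι ≫ f) g).Opens, hY0, rfl⟩, hy0, hsub⟩ :=
    (pullback (W.ι ≫ f) g).isBasis_affineOpens.exists_subset_of_mem_open
      (show y.base z ∈ (snd ⁻¹ᵁ U0 : Set _) by
        change (y ≫ snd).base z ∈ U0
        rw [pullback.lift_snd]; exact hu0) (snd ⁻¹ᵁ U0).2
  haveI : IsAffine U0 := hU0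
  haveI : IsAffine Y0 := hY0
  haveI : FormallyUnramified snd := MorphismProperty.pullback_snd _ _ inferInstance
  haveI : LocallyOfFiniteType snd := MorphismProperty.pullback_snd _ _ inferInstance
  let q0 := snd.resLE U0 Y0 hsub
  haveI : FormallyUnramified q0 := IsZariskiLocalAtSource.resLE (P := @FormallyUnramified) _ inferInstance
  haveI : LocallyOfFiniteType q0 := IsZariskiLocalAtSource.resLE (P := @LocallyOfFiniteType) _ inferInstance
  obtain ⟨A, V', j, ι, q, _, _, hj, hι, hq, hy, hcomm⟩ :=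
    AlgSpLib.exists_etale_nbhd_closedImmersion q0 (⟨y.base z, hy0⟩ : Y0)
  have hrY : Set.range y.base ⊆ Set.range Y0.ι.base := by
    rintro _ ⟨a, rfl⟩; rw [Subsingleton.elim a z, Scheme.Opens.range_ι]; exact hy0
  let y0 := IsOpenImmersion.lift Y0.ι y hrY
  have hry0 : Set.range y0.base ⊆ Set.range j.base := by
    rintro _ ⟨a, rfl⟩
    rw [Subsingleton.elim a z]
    convert hy
    apply Y0.ι.isOpenEmbedding.injective
    rw [← Scheme.Hom.comp_apply, IsOpenImmersion.lift_fac]
    rfl
  let a := IsOpenImmersion.lift j y0 hry0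
  let h := q ≫ U0.ι
  haveI : Etale h := inferInstance
  have hc : ι ≫ h = j ≫ Y0.ι ≫ snd := by
    simp only [h, q0, ← Category.assoc, ← hcomm]
    rw [Category.assoc, Scheme.Hom.resLE_comp_ι, Category.assoc]
  have hω : (a ≫ ι) ≫ h = ω := by
    rw [Category.assoc, hc, IsOpenImmersion.lift_fac_assoc, IsOpenImmersion.lift_fac_assoc,
      pullback.lift_snd]
  let Γ : A ⟶ pullback f (h ≫ g) := pullback.lift (j ≫ Y0.ι ≫ pullback.fst _ g ≫ W.ι) ι (by
    rw [reassoc_of% hc, Category.assoc, Category.assoc, Category.assoc]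
    simp [snd, pullback.condition])
  let k : pullback (W.ι ≫ f) g ⟶ pullback f g :=
    pullback.map _ _ _ _ W.ι (𝟙 _) (𝟙 _) (by simp) (by simp)
  haveI : IsOpenImmersion k := inferInstance
  haveI : Etale (proj f g h) := MorphismProperty.of_isPullback (isPullback_proj f g h).flip ‹Etale h›
  have hΓ : Γ ≫ proj f g h = j ≫ Y0.ι ≫ k := by
    apply pullback.hom_ext <;>
      simp only [Γ, k, proj, snd, pullback.map, Category.assoc, pullback.lift_fst, pullback.lift_snd,
        pullback.lift_fst_assoc, pullback.lift_snd_assoc, Category.comp_id, hc]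
  haveI : IsOpenImmersion (Γ ≫ proj f g h) := by rw [hΓ]; infer_instance
  haveI : IsOpenImmersion Γ := isOpenImmersion_of_comp Γ (proj f g h)
  refine ⟨V', h, inferInstance, a ≫ ι, hω, Γ.opensRange, ?_, ?_, ?_⟩
  · have : Γ.opensRange.ι ≫ pullback.snd f (h ≫ g) = Γ.isoOpensRange.inv ≫ ι := by
      rw [← Scheme.Hom.isoOpensRange_inv_comp]
      exact (Category.assoc _ _ _).trans (congrArg _ (pullback.lift_snd _ _ _))
    rw [this]; infer_instance
  · rintro _ ⟨b, rfl⟩
    change (Γ ≫ pullback.fst f (h ≫ g)).base b ∈ W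
    rw [pullback.lift_fst, ← Category.assoc, ← Category.assoc]
    exact Subtype.prop _
  · refine ⟨a.base z, ?_⟩
    have e : a ≫ Γ = pullback.lift p (a ≫ ι) (by rw [hp, ← hω, Category.assoc]) := by
      apply pullback.hom_ext
      · erw [Category.assoc, pullback.lift_fst, pullback.lift_fst]
        simp only [a, y0, y, p0, IsOpenImmersion.lift_fac_assoc, pullback.lift_fst_assoc, IsOpenImmersion.lift_fac]
      · erw [Category.assoc, pullback.lift_snd, pullback.lift_snd]
    rw [← Scheme.Hom.comp_apply, e]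

/-- Étale localisation at finitely many geometric points. -/
theorem exists_nbhd (n : ℕ) {Ω : Scheme.{u}} [Subsingleton Ω] (z : Ω) (ω₀ : Ω ⟶ S)
    (p : Fin n → (Ω ⟶ X)) (hp : ∀ k, p k ≫ f = ω₀)
    (W : Fin n → X.Opens) (hW : ∀ k, UnramOn f (W k)) (hpW : ∀ k, (p k).base z ∈ W k) :
    ∃ (U : Scheme.{u}) (g : U ⟶ S) (_ : Etale g) (ω : Ω ⟶ U) (hω : ω ≫ g = ω₀)
      (V : Fin n → (pullback f g).Opens), ∀ k,
      IsClosedImmersion ((V k).ι ≫ pullback.snd f g) ∧ V k ≤ pullback.fst f g ⁻¹ᵁ W k ∧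
      (pullback.lift (p k) ω (by rw [hp, hω])).base z ∈ V k := by
  induction n with
  | zero => exact ⟨S, 𝟙 S, inferInstance, ω₀, Category.comp_id _, Fin.elim0, fun k => k.elim0⟩
  | succ n ih =>
    obtain ⟨U, g, _, ω, hω, V, hV⟩ := ih (p ∘ Fin.castSucc) (fun k => hp _) (W ∘ Fin.castSucc)
      (fun k => hW _) (fun k => hpW _)
    obtain ⟨U', h, _, ω', hω', V₁, h1, h2, h3⟩ := exists_step f g (hW (Fin.last n)) z (p (Fin.last n)) ω
      (by rw [hp, hω]) (hpW _)
    let V' : Fin (n + 1) → (pullback f (h ≫ g)).Opens :=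
      Fin.lastCases V₁ (fun k => proj f g h ⁻¹ᵁ V k)
    have hl : V' (Fin.last n) = V₁ := Fin.lastCases_last ..
    have hc : ∀ k : Fin n, V' k.castSucc = proj f g h ⁻¹ᵁ V k := fun k => Fin.lastCases_castSucc ..
    refine ⟨U', h ≫ g, inferInstance, ω', by rw [reassoc_of% hω', hω], V', ?_⟩
    intro k
    induction k using Fin.lastCases with
    | last => rw [hl]; exact ⟨h1, h2, h3⟩
    | cast k =>
      rw [hc]
      refine ⟨isClosedImmersion_preimage f g h _ (hV k).1, ?_, ?_⟩
      · intro b hb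
        have := (hV k).2.1 hb
        change (proj f g h ≫ pullback.fst f g).base b ∈ W _ at this
        rwa [pullback.lift_fst] at this
      · have e : pullback.lift (p k.castSucc) ω' (by rw [hp, reassoc_of% hω', hω]) ≫ proj f g h =
            pullback.lift (p k.castSucc) ω (by rw [hp, hω]) := by
          apply pullback.hom_ext
          · erw [Category.assoc, pullback.lift_fst, pullback.lift_fst, pullback.lift_fst]
          · erw [Category.assoc, pullback.lift_snd, pullback.lift_snd, pullback.lift_snd_assoc]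
            exact hω'
        change (pullback.lift (p k.castSucc) ω' _ ≫ proj f g h).base z ∈ V k
        rw [e]
        exact (hV k).2.2

/-- The finitely many geometric points over one point of the unramified locus. -/
theorem exists_lifts (s : S) {x : X} (hxs : f.base x = s) {W : X.Opens} (hW : UnramOn f W) (hxW : x ∈ W)
    (K : Type u) [Field K] [IsAlgClosed K] (z : Spec (CommRingCat.of K)) (ω₀ : Spec (CommRingCat.of K) ⟶ S)
    (hz : ω₀.base z = s) :
    ∃ (P : Set (Spec (CommRingCat.of K) ⟶ X)), P.Finite ∧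
      (∀ p ∈ P, p ≫ f = ω₀ ∧ p.base z = x) ∧
      ∀ (U : Scheme.{u}) (g : U ⟶ S) (ω : Spec (CommRingCat.of K) ⟶ U) (hω : ω ≫ g = ω₀)
        (w : ↥(pullback f g)), (pullback.snd f g).base w = ω.base z → (pullback.fst f g).base w = x →
        ∃ p ∈ P, ∃ e, (pullback.lift p ω e).base z = w := by
  obtain ⟨_, ⟨S0 : S.Opens, hS0, rfl⟩, hs0, -⟩ :=
    S.isBasis_affineOpens.exists_subset_of_mem_open (Set.mem_univ s) isOpen_univ
  obtain ⟨_, ⟨W0 : X.Opens, hW0, rfl⟩, hx0, hsub⟩ :=
    X.isBasis_affineOpens.exists_subset_of_mem_open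
      (show x ∈ ((W : Set X) ∩ f ⁻¹ᵁ S0) from ⟨hxW, show f.base x ∈ S0 from hxs ▸ hs0⟩) (W.2.inter (f ⁻¹ᵁ S0).2)
  have hWW : W0 ≤ W := fun a ha => (hsub ha).1
  haveI := hW.1; haveI := hW.2
  haveI : IsAffine W0 := hW0
  haveI : IsAffine S0 := hS0
  let f0 := f.resLE S0 W0 (fun a ha => (hsub ha).2)
  have e0 : f0 ≫ S0.ι = X.homOfLE hWW ≫ W.ι ≫ f := by
    rw [Scheme.Hom.resLE_comp_ι, Scheme.homOfLE_ι_assoc]
  haveI : LocallyOfFiniteType (f0 ≫ S0.ι) := by rw [e0]; infer_instance
  haveI : FormallyUnramified (f0 ≫ S0.ι) := by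
    rw [e0]; exact MorphismProperty.comp_mem @FormallyUnramified _ _ inferInstance hW.2
  haveI : LocallyOfFiniteType f0 := locallyOfFiniteType_of_comp f0 S0.ι
  haveI : FormallyUnramified f0 := FormallyUnramified.of_comp f0 S0.ι
  haveI := locallyQuasiFinite f0
  have hr : Set.range ω₀.base ⊆ Set.range S0.ι.base := by
    rintro _ ⟨a, rfl⟩
    rw [Subsingleton.elim a z, hz, Scheme.Opens.range_ι]; exact hs0
  let ω0 := IsOpenImmersion.lift S0.ι ω₀ hr
  let F := pullback f0 ω0
  let π : F ⟶ Spec (CommRingCat.of K) := pullback.snd f0 ω0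
  haveI : QuasiCompact π := MorphismProperty.pullback_snd _ _ inferInstance
  haveI : LocallyOfFiniteType π := MorphismProperty.pullback_snd _ _ inferInstance
  haveI : LocallyQuasiFinite π := MorphismProperty.pullback_snd _ _ inferInstance
  have huniv : π.base ⁻¹' {z} = Set.univ := Set.eq_univ_of_forall fun b => Subsingleton.elim _ z
  haveI : Finite F := Set.finite_univ_iff.mp (huniv ▸ π.finite_preimage_singleton z)
  haveI : DiscreteTopology F := isDiscrete_univ_iff.mp (huniv ▸ π.isDiscrete_preimage_singleton z)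
  have hcl : ∀ q : F, IsClosed ({q} : Set F) := fun q => isClosed_discrete _
  let pt : F → (Spec (CommRingCat.of K) ⟶ F) := fun q => pointOfClosedPoint π q (hcl q)
  let τ : F ⟶ X := pullback.fst f0 ω0 ≫ W0.ι
  have hτ : τ ≫ f = π ≫ ω₀ := by
    simp only [τ, π, Category.assoc]
    rw [← Scheme.Hom.resLE_comp_ι f (U := S0) (V := W0) (fun a ha => (hsub ha).2), pullback.condition_assoc,
      IsOpenImmersion.lift_fac]
  refine ⟨(fun q => pt q ≫ τ) '' {q | τ.base q = x}, (Set.toFinite _).image _, ?_, ?_⟩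
  · rintro _ ⟨q, hq, rfl⟩
    exact ⟨by rw [Category.assoc, hτ, pointOfClosedPoint_comp_assoc],
      by rw [Scheme.Hom.comp_apply, pointOfClosedPoint_apply]; exact hq⟩
  intro U g ω hω w hwu hwx
  obtain ⟨ζ, hζ1, hζ2⟩ := Scheme.Pullback.exists_preimage_pullback (f := pullback.snd f g) (g := ω) w z hwu
  let Z := pullback (pullback.snd f g) ω
  let ξ := Z.fromSpecResidueField ζ
  let a := ξ ≫ pullback.fst _ _ ≫ pullback.fst f g
  let b := ξ ≫ pullback.snd _ _
  have hra : Set.range a.base ⊆ Set.range W0.ι.base := by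
    rintro _ ⟨c, rfl⟩
    rw [Scheme.Hom.comp_apply, Scheme.fromSpecResidueField_apply, Scheme.Hom.comp_apply, hζ1, hwx,
      Scheme.Opens.range_ι]
    exact hx0
  have hab : a ≫ f = b ≫ ω₀ := by
    simp only [a, b, Category.assoc, ← hω]
    rw [pullback.condition, pullback.condition_assoc]
  let m : Spec (Z.residueField ζ) ⟶ F := pullback.lift (IsOpenImmersion.lift W0.ι a hra) b (by
    rw [← cancel_mono S0.ι, Category.assoc, Category.assoc, IsOpenImmersion.lift_fac,
      Scheme.Hom.resLE_comp_ι, IsOpenImmersion.lift_fac_assoc, hab])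
  let c := IsLocalRing.closedPoint (Z.residueField ζ)
  let q := m.base c
  have hmτ : m ≫ τ = a := by rw [pullback.lift_fst_assoc, IsOpenImmersion.lift_fac]
  have hqx : τ.base q = x := by
    rw [← Scheme.Hom.comp_apply, hmτ, Scheme.Hom.comp_apply, Scheme.fromSpecResidueField_apply,
      Scheme.Hom.comp_apply, hζ1, hwx]
  refine ⟨pt q ≫ τ, ⟨q, hqx, rfl⟩, by rw [Category.assoc, hτ, pointOfClosedPoint_comp_assoc, hω], ?_⟩
  -- every map from a field landing on `q` factors through the rational point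
  have hfac : m = (m ≫ π) ≫ pt q := by
    obtain ⟨⟨q', φ⟩, hm⟩ := (Scheme.SpecToEquivOfField (Z.residueField ζ) F).symm.surjective m
    have hq' : q' = q := by
      change q' = m.base c
      rw [← hm]
      exact (Scheme.fromSpecResidueField_apply q' _).symm.trans (Scheme.Hom.comp_apply _ _ _).symm
    subst hq'
    rw [← hm]
    change Spec.map φ ≫ F.fromSpecResidueField _ = _
    simp only [Scheme.SpecToEquivOfField, Equiv.coe_fn_symm_mk, pt, pointOfClosedPoint, Category.assoc]
    congr 1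
    rw [← SpecMap_residueFieldIsoBase_inv_assoc π _ (hcl _), ← Spec.map_comp_assoc]
    simp
  have key : (ξ ≫ pullback.fst _ _) = b ≫ pullback.lift (pt q ≫ τ) ω (by
      rw [Category.assoc, hτ, pointOfClosedPoint_comp_assoc, hω]) := by
    apply pullback.hom_ext
    · rw [Category.assoc, Category.assoc, pullback.lift_fst, ← Category.assoc]
      conv_lhs => rw [Category.assoc]; change a; rw [← hmτ, hfac]
      simp only [Category.assoc]
      rw [pullback.lift_snd_assoc]
    · rw [Category.assoc, Category.assoc, pullback.lift_snd, pullback.condition]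
      simp [b]
  have := congrArg (fun t => t.base c) key
  simp only [Scheme.Hom.comp_apply] at this
  rw [Scheme.fromSpecResidueField_apply, hζ1] at this
  rw [this]
  congr 1
  exact Subsingleton.elim _ _

/-- A localisation of `f` at the points `x i` over `(U, u)`. -/
def IsLocalisation {ι : Type} (x : ι → X) (W : ι → X.Opens) {U : Scheme.{u}} (g : U ⟶ S) (u : U)
    (K : Type) (lab : K → ι) (V : K → (pullback f g).Opens) : Prop :=
  (∀ k, IsClosedImmersion ((V k).ι ≫ pullback.snd f g) ∧ V k ≤ pullback.fst f g ⁻¹ᵁ W (lab k) ∧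
    ∃ w : ↥(pullback f g), w ∈ V k ∧ (pullback.snd f g).base w = u ∧ (pullback.fst f g).base w = x (lab k)) ∧
  (∀ (k k' : K) (w : ↥(pullback f g)), w ∈ V k → w ∈ V k' → (pullback.snd f g).base w = u → k = k') ∧
  ∀ (w : ↥(pullback f g)) (i : ι), (pullback.snd f g).base w = u → (pullback.fst f g).base w = x i →
    ∃ k, lab k = i ∧ w ∈ V k

theorem injective_of_mem {U : Scheme.{u}} {g : U ⟶ S} {V : (pullback f g).Opens}
    (hV : IsClosedImmersion (V.ι ≫ pullback.snd f g)) {w w' : ↥(pullback f g)} (h : w ∈ V) (h' : w' ∈ V)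
    (e : (pullback.snd f g).base w = (pullback.snd f g).base w') : w = w' :=
  congrArg Subtype.val ((V.ι ≫ pullback.snd f g).isClosedEmbedding.injective
    (a₁ := (⟨w, h⟩ : V)) (a₂ := (⟨w', h'⟩ : V)) e)

theorem exists_localisation (s : S) {ι : Type} [Finite ι] (x : ι → X) (hinj : Function.Injective x)
    (hs : ∀ i, f.base (x i) = s) (W : ι → X.Opens) (hxW : ∀ i, x i ∈ W i) (hW : ∀ i, UnramOn f (W i)) :
    ∃ (U : Scheme.{u}) (g : U ⟶ S) (_ : Etale g) (u : U), g.base u = s ∧
      ∃ (K : Type) (_ : Finite K) (lab : K → ι) (V : K → (pullback f g).Opens),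
        IsLocalisation f x W g u K lab V := by
  classical
  let L := AlgebraicClosure (S.residueField s)
  let ω₀ : Spec (CommRingCat.of L) ⟶ S :=
    Spec.map (CommRingCat.ofHom (algebraMap (S.residueField s) L)) ≫ S.fromSpecResidueField s
  let z : Spec (CommRingCat.of L) := IsLocalRing.closedPoint L
  have hz : ω₀.base z = s := by rw [Scheme.Hom.comp_apply, Scheme.fromSpecResidueField_apply]
  choose P hfin hP hcov using fun i => exists_lifts f s (hs i) (hW i) (hxW i) L z ω₀ hz
  haveI := fun i => (hfin i).to_subtype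
  obtain ⟨n, ⟨e⟩⟩ := Finite.exists_equiv_fin (Σ i, P i)
  let lab : Fin n → ι := fun k => (e.symm k).1
  let p : Fin n → (Spec (CommRingCat.of L) ⟶ X) := fun k => (e.symm k).2.1
  obtain ⟨U, g, hg, ω, hω, V, hV⟩ := exists_nbhd f n z ω₀ p (fun k => (hP _ _ (e.symm k).2.2).1)
    (W ∘ lab) (fun k => hW _) (fun k => by
      show (p k).base z ∈ W (lab k)
      rw [(hP _ _ (e.symm k).2.2).2]; exact hxW _)
  let w : Fin n → ↥(pullback f g) := fun k =>
    (pullback.lift (p k) ω (by rw [(hP _ _ (e.symm k).2.2).1, hω])).base z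
  have hw1 : ∀ k, (pullback.snd f g).base (w k) = ω.base z := fun k => by
    rw [← Scheme.Hom.comp_apply, pullback.lift_snd]
  have hw2 : ∀ k, (pullback.fst f g).base (w k) = x (lab k) := fun k => by
    rw [← Scheme.Hom.comp_apply, pullback.lift_fst]; exact (hP _ _ (e.symm k).2.2).2
  let K := {k : Fin n // ∀ k' : Fin n, k' < k → w k' ≠ w k}
  refine ⟨U, g, hg, ω.base z, by rw [← Scheme.Hom.comp_apply, hω, hz], K, inferInstance,
    fun k => lab k.1, fun k => V k.1, fun k => ⟨(hV k).1, (hV k).2.1, w k, (hV k).2.2, hw1 _, hw2 _⟩, ?_, ?_⟩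
  · intro k k' y hy hy' hu
    have h1 : y = w k := injective_of_mem f (hV k).1 hy (hV k).2.2 (by rw [hu]; exact (hw1 _).symm)
    have h2 : y = w k' := injective_of_mem f (hV k').1 hy' (hV k').2.2 (by rw [hu]; exact (hw1 _).symm)
    rcases lt_trichotomy k.1 k'.1 with h | h | h
    · exact absurd (h1.symm.trans h2) (k'.2 _ h)
    · exact Subtype.ext h
    · exact absurd (h2.symm.trans h1) (k.2 _ h)
  · intro y i hu hxi
    obtain ⟨q, hq, hc, hqy⟩ := hcov i U g ω hω y hu hxi
    have hex : ∃ k, w k = y := ⟨e ⟨i, q, hq⟩, by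
      rw [← hqy]
      have gen : ∀ q' hc', q' = q → (pullback.lift q' ω hc').base z = (pullback.lift q ω hc).base z := by
        rintro _ _ rfl; rfl
      exact gen _ _ (by simp only [p]; rw [Equiv.symm_apply_apply])⟩
    let k₀ := Fin.find (fun k => w k = y) hex
    have hk₀ : w k₀ = y := Fin.find_spec hex
    refine ⟨⟨k₀, fun k' hk' h => Fin.find_min hex hk' (h.trans hk₀)⟩, hinj ?_, ?_⟩
    · rw [← hw2, hk₀, hxi]
    · show y ∈ V k₀
      rw [← hk₀]; exact (hV k₀).2.2

/-- Shrinking the base of a localisation. -/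
theorem IsLocalisation.of_openImmersion {ι : Type} {x : ι → X} {W : ι → X.Opens} {U : Scheme.{u}} {g : U ⟶ S} {u : U}
    {K : Type} {lab : K → ι} {V : K → (pullback f g).Opens} (h : IsLocalisation f x W g u K lab V)
    {U' : Scheme.{u}} (o : U' ⟶ U) [IsOpenImmersion o] (u' : U') (hu : o.base u' = u) :
    IsLocalisation f x W (o ≫ g) u' K lab (fun k => proj f g o ⁻¹ᵁ V k) := by
  haveI : IsOpenImmersion (proj f g o) :=
    MorphismProperty.of_isPullback (isPullback_proj f g o).flip inferInstance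
  have hfst : ∀ v : ↥(pullback f (o ≫ g)),
      (pullback.fst f g).base ((proj f g o).base v) = (pullback.fst f (o ≫ g)).base v := fun v => by
    rw [← Scheme.Hom.comp_apply, pullback.lift_fst]
  have hsnd : ∀ v : ↥(pullback f (o ≫ g)),
      (pullback.snd f g).base ((proj f g o).base v) = o.base ((pullback.snd f (o ≫ g)).base v) := fun v => by
    rw [← Scheme.Hom.comp_apply, pullback.lift_snd, Scheme.Hom.comp_apply]
  refine ⟨fun k => ⟨isClosedImmersion_preimage f g o _ (h.1 k).1, fun v hv => ?_, ?_⟩, ?_, ?_⟩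
  · have := (h.1 k).2.1 hv
    change (pullback.fst f g).base ((proj f g o).base v) ∈ W _ at this
    rwa [hfst] at this
  · obtain ⟨w, hw, hw1, hw2⟩ := (h.1 k).2.2
    obtain ⟨v, hv1, hv2⟩ := exists_preimage (isPullback_proj f g o) w u' (hw1.trans hu.symm)
    refine ⟨v, ?_, hv2, by rw [← hfst, hv1, hw2]⟩
    change (proj f g o).base v ∈ V k
    rw [hv1]; exact hw
  · intro k k' v hv hv' hu'
    exact h.2.1 k k' _ hv hv' (by rw [hsnd, hu', hu])
  · intro v i hu' hxi
    exact h.2.2 _ i (by rw [hsnd, hu', hu]) (by rw [hfst, hxi])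

theorem IsLocalisation.shrink {ι : Type} {x : ι → X} {W : ι → X.Opens} {U : Scheme.{u}} {g : U ⟶ S} {u : U}
    {K : Type} {lab : K → ι} {V : K → (pullback f g).Opens} (h : IsLocalisation f x W g u K lab V)
    (O : U.Opens) (hu : u ∈ O) :
    IsLocalisation f x W (O.ι ≫ g) ⟨u, hu⟩ K lab (fun k => proj f g O.ι ⁻¹ᵁ V k) :=
  h.of_openImmersion f O.ι ⟨u, hu⟩ rfl

theorem isClopen_of_isClosedImmersion [IsSeparated f] {U : Scheme.{u}} {g : U ⟶ S} {V : (pullback f g).Opens}
    (hV : IsClosedImmersion (V.ι ≫ pullback.snd f g)) : IsClosed (V : Set ↥(pullback f g)) := by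
  haveI := hV
  haveI : IsClosedImmersion V.ι := IsClosedImmersion.of_comp V.ι (pullback.snd f g)
  exact V.range_ι ▸ V.ι.isClosedEmbedding.isClosed_range

/-- For separated `f` one may make the branches disjoint. -/
theorem exists_disjoint [IsSeparated f] {ι : Type} {x : ι → X} {W : ι → X.Opens} {U : Scheme.{u}}
    {g : U ⟶ S} {u : U} {K : Type} [Finite K] {lab : K → ι} {V : K → (pullback f g).Opens}
    (h : IsLocalisation f x W g u K lab V) :
    ∃ (O : U.Opens) (_ : u ∈ O), ∀ k k', k ≠ k' →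
      Disjoint (proj f g O.ι ⁻¹ᵁ V k) (proj f g O.ι ⁻¹ᵁ V k') := by
  let B : Set U := ⋃ k : K, ⋃ k' ∈ {k' | k ≠ k'},
    (pullback.snd f g).base '' ((V k : Set ↥(pullback f g)) ∩ V k')
  have hB : IsClosed B := by
    refine isClosed_iUnion_of_finite fun k => (Set.toFinite _).isClosed_biUnion fun k' _ => ?_
    haveI := (h.1 k).1
    have := ((V k).ι ≫ pullback.snd f g).isClosedEmbedding.isClosedMap _
      ((isClopen_of_isClosedImmersion f (h.1 k').1).preimage (V k).ι.continuous)
    rwa [Scheme.Hom.comp_base, TopCat.coe_comp, Set.image_comp, Set.image_preimage_eq_inter_range,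
      Scheme.Opens.range_ι, Set.inter_comm] at this
  refine ⟨⟨Bᶜ, hB.isOpen_compl⟩, ?_, fun k k' hne => ?_⟩
  · simp only [TopologicalSpace.Opens.mem_mk, Set.mem_compl_iff, B, Set.mem_iUnion, not_exists]
    rintro k k' hne ⟨w, ⟨hw, hw'⟩, hwu⟩
    exact hne (h.2.1 k k' w hw hw' hwu)
  · rw [disjoint_iff, eq_bot_iff]
    intro v hv
    have hm : (pullback.snd f g).base ((proj f g (Scheme.Opens.ι ⟨Bᶜ, hB.isOpen_compl⟩)).base v) ∈ B :=
      Set.mem_iUnion.mpr ⟨k, Set.mem_biUnion (show k ≠ k' from hne) ⟨_, ⟨hv.1, hv.2⟩, rfl⟩⟩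
    rw [← Scheme.Hom.comp_apply, pullback.lift_snd, Scheme.Hom.comp_apply] at hm
    exact absurd hm ((pullback.snd f (Scheme.Opens.ι ⟨Bᶜ, hB.isOpen_compl⟩ ≫ g)).base v).2

/-- At étale points the branches can be made isomorphisms. -/
theorem exists_isIso {ι : Type} {x : ι → X} {W : ι → X.Opens} (hW : ∀ i, Etale ((W i).ι ≫ f))
    {U : Scheme.{u}} {g : U ⟶ S} {u : U} {K : Type} [Finite K] {lab : K → ι}
    {V : K → (pullback f g).Opens} (h : IsLocalisation f x W g u K lab V) :
    ∃ (O : U.Opens) (_ : u ∈ O), ∀ k,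
      IsIso ((proj f g O.ι ⁻¹ᵁ V k).ι ≫ pullback.snd f (O.ι ≫ g)) := by
  have hoi : ∀ k, IsOpenImmersion ((V k).ι ≫ pullback.snd f g) := fun k => by
    haveI := (h.1 k).1
    haveI : Etale ((pullback.fst f g ⁻¹ᵁ W (lab k)).ι ≫ pullback.snd f g) :=
      MorphismProperty.of_isPullback
        ((isPullback_morphismRestrict (pullback.fst f g) (W (lab k))).paste_vert
          (IsPullback.of_hasPullback f g)) (hW (lab k))
    haveI : Etale ((V k).ι ≫ pullback.snd f g) := by
      rw [← Scheme.homOfLE_ι _ (h.1 k).2.1, Category.assoc]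
      exact MorphismProperty.comp_mem @Etale _ _ inferInstance ‹_›
    exact IsOpenImmersion.of_flat_of_mono _
  refine ⟨⟨⋂ k, Set.range ((V k).ι ≫ pullback.snd f g).base,
    isOpen_iInter_of_finite fun k => (hoi k).base_open.isOpen_range⟩, ?_, fun k => ?_⟩
  · refine Set.mem_iInter.mpr fun k => ?_
    obtain ⟨w, hw, hw1, -⟩ := (h.1 k).2.2
    exact ⟨⟨w, hw⟩, hw1⟩
  · haveI := hoi k
    have sq := isPullback_preimage f g (Scheme.Opens.ι ⟨⋂ k, Set.range ((V k).ι ≫ pullback.snd f g).base,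
      isOpen_iInter_of_finite fun k => (hoi k).base_open.isOpen_range⟩) (V k)
    have hoi' := MorphismProperty.of_isPullback (P := @IsOpenImmersion) sq (hoi k)
    refine (isIso_iff_isOpenImmersion_and_surjective _).mpr ⟨hoi', ⟨fun v => ?_⟩⟩
    obtain ⟨w, hw⟩ := Set.mem_iInter.mp v.2 k
    obtain ⟨t, -, ht⟩ := exists_preimage sq w v hw
    exact ⟨t, ht⟩

end EtLocLib
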