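import Mathlib
import Groth.Agent.WeightLib.Local
import Groth.Agent.WeightLib.Separated
/-!
# Elementary etale localisation of quasi-finite points
-/

set_option autoImplicit false
universe u
open AlgebraicGeometry CategoryTheory Limits IsLocalRing WeightLib

namespace EtLocLib

variable {X Y : Scheme.{u}}

/-- The residue field map of `Spec` is bijective when the algebraic one is. -/
theorem bijective_residueFieldMap_openImmersion {R A : CommRingCat.{u}} (φ : R ⟶ A) {Z : Scheme.{u}}
    (j : Spec R ⟶ Z) [IsOpenImmersion j] (P : Spec A) (p : Ideal R) [p.IsPrime]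
    {ψ : p.ResidueField → P.asIdeal.ResidueField}
    {hψ : ∀ r : R, ψ (algebraMap R _ r) = algebraMap A _ (φ r)}
    (hdiv : ∀ a b, ψ (a / b) = ψ a / ψ b) (h : Function.Surjective ψ) :
    Function.Bijective ((Spec.map φ ≫ j).residueFieldMap P) := by
  refine ⟨RingHom.injective _, ?_⟩
  have key : Function.Surjective ((Spec.map φ).residueFieldMap P) := fun y => by
    let F := ((Spec.map φ).residueFieldMap P).hom.fieldRange
    have hev : ∀ r : R, (Scheme.Spec.residueFieldIso A P).inv.hom (algebraMap A _ (φ r)) ∈ F := fun r => by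
      refine ⟨(Spec R).Γevaluation _ ((Scheme.ΓSpecIso R).inv r), ?_⟩
      rw [← CategoryTheory.comp_apply, Scheme.Γevaluation_naturality]
      change (Spec A).Γevaluation P ((Spec.map φ).appTop ((Scheme.ΓSpecIso R).inv r)) = _
      have h1 := congr($(Scheme.ΓSpecIso_inv_naturality φ) r)
      simp only [CommRingCat.hom_comp, RingHom.comp_apply] at h1
      rw [← h1]
      exact (congr($(Scheme.Spec.algebraMap_residueFieldIso_inv A P) (φ r))).symm
    obtain ⟨z, hz⟩ := h ((Scheme.Spec.residueFieldIso A P).hom.hom y)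
    obtain ⟨a, b, hb, rfl⟩ := IsFractionRing.div_surjective (R ⧸ p) z
    obtain ⟨a, rfl⟩ := Ideal.Quotient.mk_surjective a
    obtain ⟨b, rfl⟩ := Ideal.Quotient.mk_surjective b
    have hy : y = (Scheme.Spec.residueFieldIso A P).inv.hom ((Scheme.Spec.residueFieldIso A P).hom.hom y) :=
      (congr($((Scheme.Spec.residueFieldIso A P).hom_inv_id) y)).symm
    rw [← hz, hdiv, ← Ideal.Quotient.algebraMap_eq, ← IsScalarTower.algebraMap_apply,
      ← IsScalarTower.algebraMap_apply, hψ, hψ, map_div₀] at hy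
    have : y ∈ F := hy ▸ div_mem (hev a) (hev b)
    exact this
  intro y
  obtain ⟨z, rfl⟩ := key y
  obtain ⟨w, rfl⟩ := ((ConcreteCategory.isIso_iff_bijective (j.residueFieldMap ((Spec.map φ).base P))).mp inferInstance).2 z
  exact ⟨w, congr($(Scheme.residueFieldMap_comp (Spec.map φ) j P) w)⟩

open TensorProduct in
set_option backward.defeqAttrib.useBackward true in
set_option backward.isDefEq.respectTransparency false in
/-- After an etale localisation a point of a quasi-finite morphism is contained in an open finite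
over the base which has no other point over the given point. -/
theorem exists_finite_open_elementary (f : X ⟶ Y) [LocallyOfFiniteType f] [LocallyQuasiFinite f] (x : X) :
    ∃ (V : Scheme.{u}) (g : V ⟶ Y) (_ : Etale g) (v : V) (W : (pullback f g).Opens)
      (z : (pullback f g : Scheme.{u})), g v = f x ∧ Function.Bijective (g.residueFieldMap v) ∧
      IsFinite (W.ι ≫ pullback.snd f g) ∧ z ∈ W ∧
      pullback.snd f g z = v ∧ pullback.fst f g z = x ∧
      ∀ q, q ∈ W → pullback.snd f g q = v → q = z := by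
  have hx := f.quasiFiniteAt x
  obtain ⟨_, ⟨U, hU, rfl⟩, hxU, -⟩ := Y.isBasis_affineOpens.exists_subset_of_mem_open
    (Set.mem_univ (f x)) isOpen_univ
  obtain ⟨_, ⟨V, hV, rfl⟩, hxV, hUV : V ≤ f ⁻¹ᵁ U⟩ :=
    X.isBasis_affineOpens.exists_subset_of_mem_open hxU (f ⁻¹ᵁ U).2
  have : (f.appLE U V hUV).hom.FiniteType := f.finiteType_appLE hU hV hUV
  algebraize [(f.appLE U V hUV).hom]
  have : (hV.primeIdealOf ⟨x, hxV⟩).asIdeal.LiesOver (hU.primeIdealOf ⟨f x, hxU⟩).asIdeal := by
    suffices hU.primeIdealOf ⟨f x, hxU⟩ = Spec.map (f.appLE U V hUV) (hV.primeIdealOf ⟨x, hxV⟩) from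
      ⟨congr(($this).1)⟩
    apply hU.isoSpec.inv.homeomorph.injective
    apply Subtype.ext
    simp only [IsAffineOpen.primeIdealOf, Scheme.Hom.homeomorph_apply,
      ← Scheme.Hom.comp_apply, ← Scheme.Opens.ι_apply, IsAffineOpen.isoSpec_hom]
    simp
  have : Algebra.QuasiFiniteAt Γ(Y, U) (hV.primeIdealOf ⟨x, hxV⟩).asIdeal :=
    hx.quasiFiniteAt hV hU hUV hxV
  obtain ⟨R, _, _, _, P, _, _, e, _, P', _, hP'P, hP', heP', hbij, _, huniq⟩ :=
    Algebra.exists_etale_isIdempotentElem_forall_liesOver_eq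
    (hU.primeIdealOf ⟨f x, hxU⟩).asIdeal (hV.primeIdealOf ⟨x, hxV⟩).asIdeal
  let φ : Γ(Y, U) ⟶ .of R := CommRingCat.ofHom <| algebraMap Γ(Y, U) R
  have hφ : φ.hom.Etale := RingHom.etale_algebraMap.mpr ‹_›
  have : Etale (Spec.map φ) := HasRingHomProperty.Spec_iff.mpr hφ
  let e₁ : Spec (.of (R ⊗ Γ(X, V))) ≅ pullback (Spec.map (f.appLE U V hUV)) (Spec.map φ) :=
    (pullbackSpecIso _ _ _).symm ≪≫ pullbackSymmetry _ _
  have he₁ : e₁.hom ≫ pullback.fst _ _ =
      Spec.map (CommRingCat.ofHom Algebra.TensorProduct.includeRight.toRingHom) := by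
    dsimp [e₁, RingHom.algebraMap_toAlgebra]
    rw [Category.assoc, pullbackSymmetry_hom_comp_fst]
    exact pullbackSpecIso_inv_snd ..
  have he₂ : e₁.hom ≫ pullback.snd _ _ =
      Spec.map (CommRingCat.ofHom (algebraMap R (R ⊗[Γ(Y, U)] Γ(X, V)))) := by
    dsimp [e₁, RingHom.algebraMap_toAlgebra]
    rw [Category.assoc, pullbackSymmetry_hom_comp_snd]
    exact pullbackSpecIso_inv_fst ..
  let g : Spec (.of (R ⊗[Γ(Y, U)] Γ(X, V))) ⟶ pullback f (Spec.map φ ≫ hU.fromSpec) :=
    e₁.hom ≫ pullback.map _ _ _ _ hV.fromSpec (𝟙 _) hU.fromSpec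
      (IsAffineOpen.SpecMap_appLE_fromSpec ..) (by simp)
  have hg₂ : g ≫ pullback.snd _ _ =
      Spec.map (CommRingCat.ofHom (algebraMap R (R ⊗[Γ(Y, U)] Γ(X, V)))) := by
    simp [g, he₂]
  let W₁ := g ''ᵁ PrimeSpectrum.basicOpen e
  have hW : IsFinite (W₁.ι ≫ pullback.snd f _) := by
    have : (algebraMap R (Localization.Away e)).Finite := RingHom.finite_algebraMap.mpr ‹_›
    let ι : Spec (.of (Localization.Away e)) ⟶ pullback f (Spec.map φ ≫ hU.fromSpec) :=
      Spec.map (CommRingCat.ofHom <| algebraMap _ _) ≫ g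
    have : ι.opensRange = W₁ := by
      simp only [Scheme.Hom.opensRange_comp, ι, W₁]
      congr 1
      exact TopologicalSpace.Opens.ext <| PrimeSpectrum.localization_away_comap_range _ _
    rw [← this, ← MorphismProperty.cancel_left_of_respectsIso @IsFinite
      (Scheme.Hom.isoOpensRange _).hom]
    have H : (pullbackSpecIso _ R _).inv ≫ pullback.fst _ (Spec.map (f.appLE U V hUV)) = _ :=
      pullbackSpecIso_inv_fst ..
    simpa [Scheme.Hom.isoOpensRange, ι, g, e₁, RingHom.algebraMap_toAlgebra, φ, H,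
      ← Spec.map_comp, IsFinite.SpecMap_iff]
  have hz₂ : ∀ Q : PrimeSpectrum (R ⊗[Γ(Y, U)] Γ(X, V)),
      pullback.snd f (Spec.map φ ≫ hU.fromSpec) (g Q) =
        ⟨Q.asIdeal.under R, inferInstance⟩ := by
    intro Q
    rw [← Scheme.Hom.comp_apply, hg₂]
    rfl
  refine ⟨Spec (.of R), Spec.map φ ≫ hU.fromSpec, inferInstance, ⟨P, ‹_›⟩, W₁, g ⟨P', ‹_›⟩,
    ?_, bijective_residueFieldMap_openImmersion φ hU.fromSpec ⟨P, ‹_›⟩ _ (hψ := fun r => AlgHom.commutes _ r) (map_div₀ _) hbij.2, hW, ⟨⟨P', ‹_›⟩, heP', rfl⟩, ?_, ?_, ?_⟩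
  · dsimp [Spec.map_apply]
    convert! hU.fromSpec_primeIdealOf ⟨f x, hxU⟩
    exact PrimeSpectrum.ext (Ideal.over_def _ _).symm
  · rw [hz₂]
    exact PrimeSpectrum.ext hP'P.over.symm
  · trans hV.fromSpec ⟨P'.comap Algebra.TensorProduct.includeRight.toRingHom, inferInstance⟩
    · simp [← Scheme.Hom.comp_apply, -Scheme.Hom.comp_base, g, reassoc_of% he₁]; rfl
    convert! hV.fromSpec_primeIdealOf ⟨x, hxV⟩
  · rintro q ⟨Q, hQ, rfl⟩ hq
    replace hq := (hz₂ Q).symm.trans hq
    congr 1
    refine PrimeSpectrum.ext (huniq Q.asIdeal Q.2 ⟨?_⟩ hQ)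
    exact congr(($hq.symm).1)


theorem bijective_of_section {U : Scheme.{u}} (g : U ⟶ Y) {s : Y} (σ : Spec (Y.residueField s) ⟶ U)
    (hσ : σ ≫ g = Y.fromSpecResidueField s) :
    g.base (σ.base (closedPoint _)) = s ∧
      Function.Bijective (g.residueFieldMap (σ.base (closedPoint _))) := by
  obtain ⟨φ, hφ⟩ : ∃ φ : U.residueField (σ.base (closedPoint _)) ⟶ Y.residueField s,
      Spec.map φ ≫ U.fromSpecResidueField _ = σ :=
    exists_eq_specMap_fromSpecResidueField σ rfl
  have hs : g.base (σ.base (closedPoint _)) = s := by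
    rw [← Scheme.Hom.comp_apply, hσ, Scheme.fromSpecResidueField_apply]
  refine ⟨hs, RingHom.injective _, fun y => ?_⟩
  have hid : ((Y.residueFieldCongr hs).inv ≫ g.residueFieldMap _) ≫ φ = 𝟙 _ := by
    apply Spec.map_inj.mp
    rw [← cancel_mono (Y.fromSpecResidueField s), Spec.map_id, Category.id_comp, Spec.map_comp,
      Spec.map_comp, Category.assoc, Category.assoc]
    rw [show Spec.map (Y.residueFieldCongr hs).inv ≫ Y.fromSpecResidueField s =
      Y.fromSpecResidueField (g.base (σ.base (closedPoint _))) from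
        Y.residueFieldCongr_fromSpecResidueField hs.symm]
    rw [Scheme.Hom.SpecMap_residueFieldMap_fromSpecResidueField, reassoc_of% hφ, hσ]
  refine ⟨(Y.residueFieldCongr hs).inv.hom (φ.hom y), φ.hom.injective ?_⟩
  exact congr($(hid) (φ.hom y))

theorem exists_section {U : Scheme.{u}} (g : U ⟶ Y) {u : U} (h : Function.Bijective (g.residueFieldMap u))
    {s : Y} (hs : g.base u = s) :
    ∃ σ : Spec (Y.residueField s) ⟶ U, σ ≫ g = Y.fromSpecResidueField s ∧ σ.base (closedPoint _) = u := by
  subst hs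
  haveI : IsIso (g.residueFieldMap u) := (ConcreteCategory.isIso_iff_bijective _).mpr h
  refine ⟨Spec.map (inv (g.residueFieldMap u)) ≫ U.fromSpecResidueField u, ?_, ?_⟩
  · rw [Category.assoc, ← Scheme.Hom.SpecMap_residueFieldMap_fromSpecResidueField, ← Spec.map_comp_assoc,
      IsIso.hom_inv_id, Spec.map_id, Category.id_comp]
  · rw [Scheme.Hom.comp_apply, Scheme.fromSpecResidueField_apply]

/-- Points of a base change over the image of a section are determined by their image upstairs. -/
theorem eq_of_section (f : X ⟶ Y) {U : Scheme.{u}} (g : U ⟶ Y) {s : Y} (σ : Spec (Y.residueField s) ⟶ U)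
    (hσ : σ ≫ g = Y.fromSpecResidueField s) {w w' : ↥(pullback f g)}
    (hu : (pullback.snd f g).base w = σ.base (closedPoint _))
    (hu' : (pullback.snd f g).base w' = σ.base (closedPoint _))
    (he : (pullback.fst f g).base w = (pullback.fst f g).base w') : w = w' := by
  obtain ⟨φ, hφ⟩ : ∃ φ : U.residueField (σ.base (closedPoint _)) ⟶ Y.residueField s,
      Spec.map φ ≫ U.fromSpecResidueField _ = σ :=
    exists_eq_specMap_fromSpecResidueField σ rfl
  obtain ⟨hgs, hbij⟩ := bijective_of_section g σ hσ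
  have main : ∀ x : X, ∀ (hx : f.base x = s) (w : ↥(pullback f g)), (pullback.snd f g).base w = σ.base (closedPoint _) →
      (pullback.fst f g).base w = x →
      ∃ e, (pullback.lift (X.fromSpecResidueField x)
        (Spec.map ((Y.residueFieldCongr hx).inv ≫ f.residueFieldMap x) ≫ σ) e).base (closedPoint _) = w := by
    intro x hx w hwu hwx
    have hc : Spec.map ((Y.residueFieldCongr hx).inv ≫ f.residueFieldMap x) ≫ Y.fromSpecResidueField s =
        X.fromSpecResidueField x ≫ f := by
      rw [Spec.map_comp, Category.assoc, ← Scheme.Hom.SpecMap_residueFieldMap_fromSpecResidueField]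
      congr 1
      exact Y.residueFieldCongr_fromSpecResidueField hx.symm
    have e : X.fromSpecResidueField x ≫ f =
        (Spec.map ((Y.residueFieldCongr hx).inv ≫ f.residueFieldMap x) ≫ σ) ≫ g := by
      rw [Category.assoc, hσ, hc]
    refine ⟨e, ?_⟩
    let P := pullback f g
    let ξ := P.fromSpecResidueField w
    let cw := (Y.residueFieldCongr (show (pullback.snd f g ≫ g).base w = s by
      rw [Scheme.Hom.comp_apply, hwu, hgs])).inv ≫ (pullback.snd f g ≫ g).residueFieldMap w
    obtain ⟨b, hb⟩ : ∃ b : X.residueField x ⟶ P.residueField w,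
        Spec.map b ≫ X.fromSpecResidueField x = ξ ≫ pullback.fst f g :=
      exists_eq_specMap_fromSpecResidueField (ξ ≫ pullback.fst f g) (x := x) (by
      show (ξ ≫ pullback.fst f g).base (closedPoint _) = x
      rw [Scheme.Hom.comp_apply, Scheme.fromSpecResidueField_apply, hwx])
    obtain ⟨a, ha⟩ : ∃ a : U.residueField (σ.base (closedPoint _)) ⟶ P.residueField w,
        Spec.map a ≫ U.fromSpecResidueField _ = ξ ≫ pullback.snd f g :=
      exists_eq_specMap_fromSpecResidueField (ξ ≫ pullback.snd f g)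
      (x := σ.base (closedPoint _)) (by
      show (ξ ≫ pullback.snd f g).base (closedPoint _) = _
      rw [Scheme.Hom.comp_apply, Scheme.fromSpecResidueField_apply, hwu])
    haveI : IsIso (g.residueFieldMap (σ.base (closedPoint _))) := (ConcreteCategory.isIso_iff_bijective _).mpr hbij
    let τ := Spec.map (g.residueFieldMap (σ.base (closedPoint _))) ≫
      Spec.map (Y.residueFieldCongr hgs).inv
    have hτ : U.fromSpecResidueField _ = τ ≫ σ := by
      refine Eq.trans ?_ (congrArg (τ ≫ ·) hφ)
      have h1 : τ ≫ Spec.map φ = 𝟙 _ := by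
        have h0 : (Spec.map φ ≫ τ) = 𝟙 _ := by
          rw [← cancel_mono (Y.fromSpecResidueField s), Category.id_comp]
          simp only [τ, Category.assoc]
          rw [show Spec.map (Y.residueFieldCongr hgs).inv ≫ Y.fromSpecResidueField s =
            Y.fromSpecResidueField (g.base (σ.base (closedPoint _))) from
              Y.residueFieldCongr_fromSpecResidueField hgs.symm]
          rw [Scheme.Hom.SpecMap_residueFieldMap_fromSpecResidueField, reassoc_of% hφ, hσ]
        haveI : IsIso τ := inferInstanceAs (IsIso (Spec.map _ ≫ Spec.map _))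
        rw [← cancel_mono τ, Category.assoc, h0, Category.comp_id, Category.id_comp]
      simp only [reassoc_of% h1]
    have hξ : ξ = Spec.map b ≫ pullback.lift (X.fromSpecResidueField x)
        (Spec.map ((Y.residueFieldCongr hx).inv ≫ f.residueFieldMap x) ≫ σ) e := by
      apply pullback.hom_ext
      · rw [Category.assoc, pullback.lift_fst, hb]
      · rw [Category.assoc, pullback.lift_snd, ← ha, hτ, ← Category.assoc (Spec.map a), ← Category.assoc (Spec.map b)]
        congr 1
        rw [← cancel_mono (Y.fromSpecResidueField s)]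
        simp only [Category.assoc, hc, τ]
        rw [show Spec.map (Y.residueFieldCongr hgs).inv ≫ Y.fromSpecResidueField s =
          Y.fromSpecResidueField (g.base (σ.base (closedPoint _))) from
            Y.residueFieldCongr_fromSpecResidueField hgs.symm]
        rw [Scheme.Hom.SpecMap_residueFieldMap_fromSpecResidueField, reassoc_of% ha, reassoc_of% hb,
          pullback.condition]
    have h2 := congr($(hξ).base (closedPoint _))
    rw [Scheme.fromSpecResidueField_apply, Scheme.Hom.comp_apply] at h2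
    rw [h2]
    congr 1
    exact Subsingleton.elim _ _
  have hx : f.base ((pullback.fst f g).base w) = s := by
    rw [← Scheme.Hom.comp_apply, pullback.condition, Scheme.Hom.comp_apply, hu, hgs]
  obtain ⟨_, h1⟩ := main _ hx w hu rfl
  obtain ⟨_, h2⟩ := main _ hx w' hu' he.symm
  rw [← h1, ← h2]

/-- A quasi-finite point lies in a finite open after an elementary etale localisation. -/
theorem exists_step_qf (f : X ⟶ Y) [LocallyOfFiniteType f] (x : X) (hx : f.QuasiFiniteAt x) {s : Y}
    (hs : f.base x = s) :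
    ∃ (U : Scheme.{u}) (g : U ⟶ Y) (_ : Etale g) (σ : Spec (Y.residueField s) ⟶ U)
      (_ : σ ≫ g = Y.fromSpecResidueField s) (W : (pullback f g).Opens) (z : ↥(pullback f g)),
      IsFinite (W.ι ≫ pullback.snd f g) ∧ z ∈ W ∧
      (pullback.snd f g).base z = σ.base (closedPoint _) ∧ (pullback.fst f g).base z = x ∧
      ∀ q ∈ W, (pullback.snd f g).base q = σ.base (closedPoint _) → q = z := by
  let U₀ := f.quasiFiniteLocus
  let e : U₀.toScheme ⟶ Y := U₀.ι ≫ f
  haveI : LocallyQuasiFinite e := inferInstanceAs (LocallyQuasiFinite (f.quasiFiniteLocus.ι ≫ f))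
  haveI : LocallyOfFiniteType e := inferInstanceAs (LocallyOfFiniteType (U₀.ι ≫ f))
  obtain ⟨U, g, hg, v, W, z, hv, hbij, hW, hzW, hzv, hzx, hzu⟩ := exists_finite_open_elementary e ⟨x, hx⟩
  obtain ⟨σ, hσ, hσv⟩ := exists_section g hbij (hv.trans hs)
  let m : pullback e g ⟶ pullback f g := pullback.lift (pullback.fst e g ≫ U₀.ι)
    (pullback.snd e g) (by rw [Category.assoc]; exact pullback.condition)
  have hm : IsPullback (pullback.fst e g) m U₀.ι (pullback.fst f g) :=
    IsPullback.of_bot (by rw [pullback.lift_snd]; exact IsPullback.of_hasPullback e g)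
      (pullback.lift_fst ..).symm (IsPullback.of_hasPullback f g)
  haveI : IsOpenImmersion m := MorphismProperty.of_isPullback hm inferInstance
  refine ⟨U, g, hg, σ, hσ, m ''ᵁ W, m.base z, ?_, ⟨z, hzW, rfl⟩, ?_, ?_, ?_⟩
  · haveI := hW
    have : (m.isoImage W).inv ≫ W.ι ≫ pullback.snd e g = (m ''ᵁ W).ι ≫ pullback.snd f g := by
      rw [show pullback.snd e g = m ≫ pullback.snd f g from (pullback.lift_snd ..).symm,
        ← Category.assoc W.ι, ← Scheme.Hom.isoImage_hom_ι, Category.assoc, Iso.inv_hom_id_assoc]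
    rw [← this]; infer_instance
  · rw [← Scheme.Hom.comp_apply, pullback.lift_snd, hzv, hσv]
  · rw [← Scheme.Hom.comp_apply, pullback.lift_fst, Scheme.Hom.comp_apply, hzx]
    rfl
  · rintro _ ⟨q, hq, rfl⟩ hqu
    have h1 : (m ≫ pullback.snd f g).base q = σ.base (closedPoint _) :=
      (Scheme.Hom.comp_apply m (pullback.snd f g) q).trans hqu
    rw [pullback.lift_snd, hσv] at h1
    exact congrArg m.base (hzu q hq h1)

theorem isFinite_iSup {P U : Scheme.{u}} (π : P ⟶ U) [IsSeparated π] [LocallyOfFiniteType π]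
    {ι : Type} [Finite ι] (W : ι → P.Opens) (hW : ∀ i, IsFinite ((W i).ι ≫ π)) :
    IsFinite ((⨆ i, W i).ι ≫ π) := by
  let O := ⨆ i, W i
  let q := O.ι ≫ π
  let W' : ι → (O : Scheme.{u}).Opens := fun i => O.ι ⁻¹ᵁ W i
  have h : ∀ i, IsFinite ((W' i).ι ≫ q) := fun i => by
    haveI := hW i
    have hr : IsIso (O.ι ∣_ W i) := (isIso_iff_isOpenImmersion_and_surjective _).mpr
      ⟨inferInstance, ⟨fun w => ⟨⟨⟨w.1, TopologicalSpace.Opens.mem_iSup.mpr ⟨i, w.2⟩⟩, w.2⟩, Subtype.ext
        (morphismRestrict_base_coe O.ι _ _)⟩⟩⟩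
    rw [show (W' i).ι ≫ q = (O.ι ∣_ W i) ≫ (W i).ι ≫ π by rw [morphismRestrict_ι_assoc]]
    infer_instance
  have hcov : ∀ p : ↥(O : Scheme.{u}), ∃ i, p ∈ W' i := fun p => by
    obtain ⟨i, hi⟩ := TopologicalSpace.Opens.mem_iSup.mp p.2
    exact ⟨i, hi⟩
  haveI : UniversallyClosed q := universallyClosed_of_cover q W' hcov
  haveI : IsProper q := ⟨⟩
  haveI : LocallyQuasiFinite q := by
    refine (Scheme.Hom.quasiFiniteLocus_eq_top_iff q).mp (top_le_iff.mp fun p _ => ?_)
    obtain ⟨i, hi⟩ := hcov p
    haveI := h i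
    have h1 := ((W' i).ι ≫ q).quasiFiniteAt ⟨p, hi⟩
    exact Scheme.Hom.quasiFiniteAt_comp_iff_of_isOpenImmersion.mp h1
  exact IsFinite.of_isProper_of_locallyQuasiFinite q

/-- Elementary etale localisation at finitely many quasi-finite points (no separatedness). -/
theorem exists_elementary_family (f : X ⟶ Y) [LocallyOfFiniteType f] (s : Y) : ∀ J : Finset X,
    (∀ x ∈ J, f.base x = s ∧ f.QuasiFiniteAt x) →
    ∃ (U : Scheme.{u}) (g : U ⟶ Y) (_ : Etale g) (σ : Spec (Y.residueField s) ⟶ U)
      (_ : σ ≫ g = Y.fromSpecResidueField s) (n : ℕ) (W : Fin n → (pullback f g).Opens),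
      (∀ i, IsFinite ((W i).ι ≫ pullback.snd f g)) ∧
      ∀ x ∈ J, ∃ i, ∃ w ∈ W i, (pullback.snd f g).base w = σ.base (closedPoint _) ∧
        (pullback.fst f g).base w = x ∧
        ∀ w' ∈ W i, (pullback.snd f g).base w' = σ.base (closedPoint _) → w' = w := by
  classical
  intro J
  induction J using Finset.induction_on with
  | empty =>
    intro _
    exact ⟨Y, 𝟙 Y, inferInstance, Y.fromSpecResidueField s, Category.comp_id _, 0, Fin.elim0,
      fun i => i.elim0, by simp⟩
  | @insert a J _ ih =>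
    intro hJ
    obtain ⟨U, g, hg, σ, hσ, n, W, hW, hcov⟩ := ih fun x hx => hJ x (Finset.mem_insert_of_mem hx)
    obtain ⟨U', g', hg', σ', hσ', W', z, hW', hzW, hzu, hza, huni⟩ :=
      exists_step_qf f a (hJ a (Finset.mem_insert_self _ _)).2 (hJ a (Finset.mem_insert_self _ _)).1
    let T := pullback g g'
    let G : T ⟶ Y := pullback.fst g g' ≫ g
    haveI : Etale G := inferInstanceAs (Etale (pullback.fst g g' ≫ g))
    let τ : Spec (Y.residueField s) ⟶ T := pullback.lift σ σ' (hσ.trans hσ'.symm)
    have hτ : τ ≫ G = Y.fromSpecResidueField s := by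
      rw [pullback.lift_fst_assoc, hσ]
    obtain ⟨m, hm, hma⟩ := exists_isPullback_map (IsPullback.of_hasPullback f g)
      (IsPullback.of_hasPullback f G) (pullback.fst g g') rfl
    obtain ⟨m', hm', hma'⟩ := exists_isPullback_map (IsPullback.of_hasPullback f g')
      (IsPullback.of_hasPullback f G) (pullback.snd g g') pullback.condition.symm
    refine ⟨T, G, inferInstance, τ, hτ, n + 1, Fin.snoc (fun i => m ⁻¹ᵁ W i) (m' ⁻¹ᵁ W'), ?_, ?_⟩
    · intro i
      induction i using Fin.lastCases with
      | last => rw [Fin.snoc_last]; haveI := hW'; exact isFinite_restrict hm' W'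
      | cast i => rw [Fin.snoc_castSucc]; haveI := hW i; exact isFinite_restrict hm (W i)
    intro x hx
    have hxs := (hJ x hx).1
    obtain ⟨w, hw1, hw2⟩ := Scheme.Pullback.exists_preimage_pullback (f := f) (g := G) x
      (τ.base (closedPoint _)) (by
        rw [hxs, ← Scheme.Hom.comp_apply, hτ, Scheme.fromSpecResidueField_apply])
    rcases Finset.mem_insert.mp hx with rfl | hx
    · refine ⟨Fin.last n, w, ?_, hw2, hw1, fun w' hw' hu' => ?_⟩
      rotate_left
      · rw [Fin.snoc_last] at hw'
        refine eq_of_section f G τ hτ hu' hw2 ?_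
        have h0 := huni (m'.base w') hw' (by
          rw [← Scheme.Hom.comp_apply, hm'.w, Scheme.Hom.comp_apply, hu', ← Scheme.Hom.comp_apply, pullback.lift_snd])
        rw [hw1, ← hma', Scheme.Hom.comp_apply, h0, hza]
      rw [Fin.snoc_last]
      change m'.base w ∈ W'
      rw [eq_of_section f g' σ' hσ' (w := m'.base w) (w' := z)
        (by rw [← Scheme.Hom.comp_apply, hm'.w, Scheme.Hom.comp_apply, hw2, ← Scheme.Hom.comp_apply,
          pullback.lift_snd]) hzu (by rw [← Scheme.Hom.comp_apply, hma', hw1, hza])]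
      exact hzW
    · obtain ⟨i, w₀, hw₀, hu₀, hx₀, huniq⟩ := hcov x hx
      refine ⟨i.castSucc, w, ?_, hw2, hw1, fun w' hw' hu' => ?_⟩
      rotate_left
      · rw [Fin.snoc_castSucc] at hw'
        refine eq_of_section f G τ hτ hu' hw2 ?_
        have h0 := huniq (m.base w') hw' (by
          rw [← Scheme.Hom.comp_apply, hm.w, Scheme.Hom.comp_apply, hu', ← Scheme.Hom.comp_apply, pullback.lift_fst])
        rw [hw1, ← hma, Scheme.Hom.comp_apply, h0, hx₀]
      rw [Fin.snoc_castSucc]
      change m.base w ∈ W i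
      rw [eq_of_section f g σ hσ (w := m.base w) (w' := w₀)
        (by rw [← Scheme.Hom.comp_apply, hm.w, Scheme.Hom.comp_apply, hw2, ← Scheme.Hom.comp_apply,
          pullback.lift_fst]) hu₀ (by rw [← Scheme.Hom.comp_apply, hma, hw1, hx₀])]
      exact hw₀

/-- Elementary etale localisation at finitely many quasi-finite points. -/
theorem exists_elementary_finite (f : X ⟶ Y) [LocallyOfFiniteType f] [IsSeparated f] (s : Y)
    (J : Set X) (hJ : J.Finite) (hs : ∀ x ∈ J, f.base x = s) (hq : ∀ x ∈ J, f.QuasiFiniteAt x) :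
    ∃ (U : Scheme.{u}) (g : U ⟶ Y) (_ : Etale g) (σ : Spec (Y.residueField s) ⟶ U)
      (_ : σ ≫ g = Y.fromSpecResidueField s) (V : (pullback f g).Opens),
      IsClosed (V : Set ↥(pullback f g)) ∧ IsFinite (V.ι ≫ pullback.snd f g) ∧
      ∀ w : ↥(pullback f g), (pullback.snd f g).base w = σ.base (closedPoint _) →
        (pullback.fst f g).base w ∈ J → w ∈ V := by
  classical
  obtain ⟨U, g, hg, σ, hσ, n, W, hW, hcov⟩ := exists_elementary_family f s hJ.toFinset
    (fun x hx => ⟨hs x (hJ.mem_toFinset.mp hx), hq x (hJ.mem_toFinset.mp hx)⟩)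
  have hfin := isFinite_iSup (pullback.snd f g) W hW
  refine ⟨U, g, hg, σ, hσ, ⨆ i, W i, ?_, hfin, fun w hwu hwJ => ?_⟩
  · haveI := hfin
    haveI : IsFinite (⨆ i, W i).ι := IsFinite.of_comp _ (pullback.snd f g)
    have hh := (⨆ i, W i).ι.isClosedMap.isClosed_range
    rwa [Scheme.Opens.range_ι] at hh
  · obtain ⟨i, w', hw', hu', he', -⟩ := hcov _ (hJ.mem_toFinset.mpr hwJ)
    rw [eq_of_section f g σ hσ hwu hu' he'.symm]
    exact TopologicalSpace.Opens.mem_iSup.mpr ⟨i, hw'⟩

/-- A point over `x` of a base change along a section has the residue field of `x`. -/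
theorem bijective_fst_residueFieldMap (f : X ⟶ Y) {U : Scheme.{u}} (g : U ⟶ Y) {s : Y}
    (σ : Spec (Y.residueField s) ⟶ U) (hσ : σ ≫ g = Y.fromSpecResidueField s) {w : ↥(pullback f g)}
    (hu : (pullback.snd f g).base w = σ.base (closedPoint _)) :
    Function.Bijective ((pullback.fst f g).residueFieldMap w) := by
  let x := (pullback.fst f g).base w
  have hx : f.base x = s := by
    rw [← Scheme.Hom.comp_apply, pullback.condition, Scheme.Hom.comp_apply, hu,
      (bijective_of_section g σ hσ).1]
  let τ : Spec (X.residueField x) ⟶ pullback f g := pullback.lift (X.fromSpecResidueField x)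
    (Spec.map ((Y.residueFieldCongr hx).inv ≫ f.residueFieldMap x) ≫ σ) (by
      rw [Category.assoc, hσ, Spec.map_comp, Category.assoc,
        show Spec.map (Y.residueFieldCongr hx).inv ≫ Y.fromSpecResidueField s =
          Y.fromSpecResidueField (f.base x) from Y.residueFieldCongr_fromSpecResidueField hx.symm,
        Scheme.Hom.SpecMap_residueFieldMap_fromSpecResidueField])
  obtain ⟨h1, h2⟩ := bijective_of_section (pullback.fst f g) τ (pullback.lift_fst ..)
  have : τ.base (closedPoint _) = w := by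
    refine eq_of_section f g σ hσ ?_ hu h1
    rw [← Scheme.Hom.comp_apply, pullback.lift_snd, Scheme.Hom.comp_apply]
    congr 1
    exact Subsingleton.elim _ _
  rwa [this] at h2

/-- The fibre over the image of a section is the fibre of the original morphism. -/
theorem fiber_isOpen_singleton_of_section (f : X ⟶ Y) {U : Scheme.{u}} (g : U ⟶ Y) {s : Y}
    (σ : Spec (Y.residueField s) ⟶ U) (hσ : σ ≫ g = Y.fromSpecResidueField s)
    (w : ↥((pullback.snd f g).fiber (σ.base (closedPoint _))))
    (hw : IsOpen ({w} : Set ↥((pullback.snd f g).fiber (σ.base (closedPoint _))))) :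
    ∃ x : ↥(f.fiber s), IsOpen ({x} : Set ↥(f.fiber s)) ∧
      (f.fiberι s).base x = (pullback.fst f g).base (((pullback.snd f g).fiberι _).base w) := by
  let u := σ.base (closedPoint _)
  obtain ⟨φ, hφ⟩ : ∃ φ : U.residueField u ⟶ Y.residueField s, Spec.map φ ≫ U.fromSpecResidueField u = σ :=
    exists_eq_specMap_fromSpecResidueField σ rfl
  let η : f.fiber s ⟶ (pullback.snd f g).fiber u :=
    pullback.lift (pullback.lift (f.fiberι s) (f.fiberToSpecResidueField s ≫ σ)
      (by rw [Category.assoc, hσ]; exact pullback.condition))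
      (f.fiberToSpecResidueField s ≫ Spec.map φ)
      (by rw [pullback.lift_snd, Category.assoc, hφ])
  have h1 : η ≫ (pullback.snd f g).fiberι u ≫ pullback.fst f g = f.fiberι s := by
    simp only [η, Scheme.Hom.fiberι]
    erw [pullback.lift_fst_assoc, pullback.lift_fst]
  obtain ⟨hgs, -⟩ := bijective_of_section g σ hσ
  obtain ⟨x, hx⟩ : (pullback.fst f g).base (((pullback.snd f g).fiberι u).base w) ∈
      Set.range (f.fiberι s).base := by
    rw [Scheme.Hom.range_fiberι, Set.mem_preimage, Set.mem_singleton_iff, ← Scheme.Hom.comp_apply,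
      pullback.condition, Scheme.Hom.comp_apply]
    have := Set.mem_range_self (f := ((pullback.snd f g).fiberι u).base) w
    rw [Scheme.Hom.range_fiberι, Set.mem_preimage, Set.mem_singleton_iff] at this
    rw [this]; exact hgs
  have hw' : η.base x = w := by
    apply ((pullback.snd f g).fiberι u).isEmbedding.injective
    have hu : ∀ v : ↥((pullback.snd f g).fiber u),
        (pullback.snd f g).base (((pullback.snd f g).fiberι u).base v) = u := fun v => by
      have := Set.mem_range_self (f := ((pullback.snd f g).fiberι u).base) v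
      rwa [Scheme.Hom.range_fiberι, Set.mem_preimage, Set.mem_singleton_iff] at this
    refine eq_of_section f g σ hσ (hu _) (hu _) ?_
    rw [← hx]
    have := congr($(h1).base x)
    simpa only [Scheme.Hom.comp_apply] using this
  refine ⟨x, ?_, hx⟩
  have : ({x} : Set ↥(f.fiber s)) = η.base ⁻¹' {w} := Set.ext fun y => by
    refine ⟨fun h => by rw [Set.mem_singleton_iff.mp h]; exact hw', fun h => ?_⟩
    have h2 : η.base y = η.base x := (Set.mem_singleton_iff.mp h).trans hw'.symm
    refine (f.fiberι s).isEmbedding.injective ?_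
    rw [← h1]
    simp only [Scheme.Hom.comp_apply, h2]
  rw [this]
  exact hw.preimage η.continuous

end EtLocLib
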