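import Mathlib
import Groth.Agent.EtLocLib.Unram
/-!
# Étale localisation of unramified algebras by idempotents
-/

set_option autoImplicit false
universe u
open CategoryTheory CategoryTheory.Limits AlgebraicGeometry TensorProduct

namespace EtLocLib

theorem surjective_of_isClosedImmersion {A B : CommRingCat.{u}} (φ : A ⟶ B)
    [IsClosedImmersion (Spec.map φ)] : Function.Surjective φ.hom := fun b => by
  obtain ⟨a, ha⟩ := (Spec.map φ).app_surjective ⊤ (isAffineOpen_top _) ((Scheme.ΓSpecIso B).inv.hom b)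
  refine ⟨(Scheme.ΓSpecIso A).hom.hom a, ?_⟩
  have := congr($(Scheme.ΓSpecIso_naturality φ) a)
  simp only [CommRingCat.hom_comp, RingHom.comp_apply] at this
  rw [← this]
  change (Scheme.ΓSpecIso B).hom.hom ((Spec.map φ).app ⊤ a) = b
  rw [ha]
  exact congr($((Scheme.ΓSpecIso B).inv_hom_id) b)

theorem exists_idempotents (R S : Type u) [CommRing R] [CommRing S] [Algebra R S] (p : PrimeSpectrum R)
    {ι : Type} [Finite ι] (x : ι → PrimeSpectrum S) (hinj : Function.Injective x)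
    (hs : ∀ i, (x i).comap (algebraMap R S) = p)
    (W : ι → (Spec (CommRingCat.of S)).Opens) (hxW : ∀ i, x i ∈ W i)
    (hW : ∀ i, UnramOn (Spec.map (CommRingCat.ofHom (algebraMap R S))) (W i)) :
    ∃ (R' : Type u) (_ : CommRing R') (_ : Algebra R R') (_ : Algebra.Etale R R') (p' : Ideal R')
      (_ : p'.IsPrime) (_ : p'.LiesOver p.asIdeal) (n : ℕ) (lab : Fin n → ι) (e : Fin n → R' ⊗[R] S),
      OrthogonalIdempotents e ∧
      (∀ k, Function.Surjective ((Ideal.Quotient.mk (Ideal.span {1 - e k})).comp (algebraMap R' (R' ⊗[R] S))) ∧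
        ∃ Q : Ideal (R' ⊗[R] S), Q.IsPrime ∧ e k ∉ Q ∧ Q.comap (algebraMap R' (R' ⊗[R] S)) = p' ∧
          Q.comap (Algebra.TensorProduct.includeRight (R := R) (A := R') (B := S)).toRingHom = (x (lab k)).asIdeal) ∧
      (∀ Q : Ideal (R' ⊗[R] S), Q.IsPrime → ∀ i, Q.comap (algebraMap R' (R' ⊗[R] S)) = p' →
          Q.comap (Algebra.TensorProduct.includeRight (R := R) (A := R') (B := S)).toRingHom = (x i).asIdeal →
          ∃ k, lab k = i ∧ e k ∉ Q) ∧
      (∀ i, ∃ Q : Ideal (R' ⊗[R] S), Q.IsPrime ∧ Q.comap (algebraMap R' (R' ⊗[R] S)) = p' ∧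
          Q.comap (Algebra.TensorProduct.includeRight (R := R) (A := R') (B := S)).toRingHom = (x i).asIdeal) := by
  classical
  let f : Spec (CommRingCat.of S) ⟶ Spec (CommRingCat.of R) := Spec.map (CommRingCat.ofHom (algebraMap R S))
  obtain ⟨U, g, hg, u, hgu, K, hK, lab, V, h⟩ := exists_localisation f p x hinj hs W hxW hW
  obtain ⟨O₁, hu₁, hdis⟩ := exists_disjoint f h
  have h₁ := h.shrink f O₁ hu₁
  obtain ⟨_, ⟨O : (O₁ : Scheme.{u}).Opens, hO, rfl⟩, huO, -⟩ :=
    (O₁ : Scheme.{u}).isBasis_affineOpens.exists_subset_of_mem_open (Set.mem_univ ⟨u, hu₁⟩) isOpen_univ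
  have hO : IsAffineOpen O := hO
  have hu' : hO.fromSpec.base (hO.primeIdealOf ⟨_, huO⟩) = ⟨u, hu₁⟩ := hO.fromSpec_primeIdealOf _
  have h₂ := h₁.of_openImmersion f hO.fromSpec _ hu'
  let R' := Γ((O₁ : Scheme.{u}), O)
  let G : Spec R' ⟶ Spec (CommRingCat.of R) := hO.fromSpec ≫ O₁.ι ≫ g
  obtain ⟨φ, hφ⟩ := Spec.map_surjective G
  letI : Algebra R R' := φ.hom.toAlgebra
  haveI : Algebra.Etale R R' := by
    have : Etale (Spec.map φ) := hφ ▸ inferInstanceAs (Etale (hO.fromSpec ≫ O₁.ι ≫ g))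
    exact RingHom.etale_algebraMap.mp ((HasRingHomProperty.Spec_iff (P := @Etale)).mp this)
  let T := R' ⊗[R] S
  have sq : IsPullback (Spec.map (CommRingCat.ofHom (Algebra.TensorProduct.includeLeftRingHom (R := R) (A := R') (B := S))))
      (Spec.map (CommRingCat.ofHom (Algebra.TensorProduct.includeRight (R := R) (A := R') (B := S)).toRingHom))
      G f := by
    rw [← hφ]
    exact isPullback_SpecMap_of_isPushout _ _ _ _ (CommRingCat.isPushout_tensorProduct R R' S)
  let π := sq.flip.isoPullback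
  have hπ1 : π.hom ≫ pullback.fst f G =
      Spec.map (CommRingCat.ofHom (Algebra.TensorProduct.includeRight (R := R) (A := R') (B := S)).toRingHom) :=
    sq.flip.isoPullback_hom_fst
  have hπ2 : π.hom ≫ pullback.snd f G =
      Spec.map (CommRingCat.ofHom (Algebra.TensorProduct.includeLeftRingHom (R := R) (A := R') (B := S))) :=
    sq.flip.isoPullback_hom_snd
  let V₂ : K → (pullback f G).Opens := fun k =>
    proj f (O₁.ι ≫ g) hO.fromSpec ⁻¹ᵁ (proj f g O₁.ι ⁻¹ᵁ V k)
  have h₂ : IsLocalisation f x W G (hO.primeIdealOf ⟨_, huO⟩) K lab V₂ := h₂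
  have hV₂ : ∀ k k', k ≠ k' → Disjoint (V₂ k) (V₂ k') := fun k k' hne => by
    rw [disjoint_iff, eq_bot_iff]
    intro v hv
    exact absurd ((disjoint_iff.mp (hdis k k' hne)).le ⟨hv.1, hv.2⟩) (by simp)
  obtain ⟨n, ⟨eK⟩⟩ := Finite.exists_equiv_fin K
  let D : Fin n → (Spec (CommRingCat.of T)).Opens := fun k => π.hom ⁻¹ᵁ V₂ (eK.symm k)
  have hDc : ∀ k, IsClopen (show Set (PrimeSpectrum T) from SetLike.coe (D k)) := fun k =>
    ⟨(isClopen_of_isClosedImmersion f (h₂.1 _).1).preimage π.hom.continuous, (D k).2⟩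
  choose e hei heD using fun k => PrimeSpectrum.isClopen_iff.mp (hDc k)
  have hmem : ∀ k (Q : PrimeSpectrum T), π.hom.base Q ∈ V₂ (eK.symm k) ↔ e k ∉ Q.asIdeal := fun k Q => by
    have := Set.ext_iff.mp (heD k) Q
    exact this
  have hπb1 : ∀ Q : PrimeSpectrum T, ((pullback.fst f G).base (π.hom.base Q)) =
      Q.comap (Algebra.TensorProduct.includeRight (R := R) (A := R') (B := S)).toRingHom := fun Q => by
    rw [← Scheme.Hom.comp_apply, hπ1]; rfl
  have hπb2 : ∀ Q : PrimeSpectrum T, ((pullback.snd f G).base (π.hom.base Q)) =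
      Q.comap (Algebra.TensorProduct.includeLeftRingHom (R := R) (A := R') (B := S)) := fun Q => by
    rw [← Scheme.Hom.comp_apply, hπ2]; rfl
  let p' : PrimeSpectrum R' := hO.primeIdealOf ⟨_, huO⟩
  have hp' : p'.comap (algebraMap R R') = p := by
    have h0 : (Spec.map φ).base p' = p := by
      rw [hφ]
      simp only [G, Scheme.Hom.comp_apply]
      rw [hu']
      exact hgu
    exact h0
  refine ⟨R', inferInstance, inferInstance, inferInstance, p'.asIdeal, p'.isPrime,
    ⟨(congrArg PrimeSpectrum.asIdeal hp').symm⟩, n, lab ∘ eK.symm, e, ?_, fun k => ⟨?_, ?_⟩, ?_, ?_⟩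
  · refine ⟨hei, fun k k' hne => ?_⟩
    have hnil : IsNilpotent (e k * e k') := by
      rw [nilpotent_iff_mem_prime]
      intro Q hQ
      by_contra hc
      have h1 : π.hom.base ⟨Q, hQ⟩ ∈ V₂ (eK.symm k) ⊓ V₂ (eK.symm k') :=
        ⟨(hmem k ⟨Q, hQ⟩).mpr fun h => hc (Q.mul_mem_right _ h),
          (hmem k' ⟨Q, hQ⟩).mpr fun h => hc (Q.mul_mem_left _ h)⟩
      rw [disjoint_iff.mp (hV₂ _ _ fun h => hne (eK.symm.injective h))] at h1
      exact h1
    exact (IsIdempotentElem.mul (hei k) (hei k')).eq_zero_of_isNilpotent hnil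
  · let qk : CommRingCat.of T ⟶ CommRingCat.of (T ⧸ Ideal.span {1 - e k}) :=
      CommRingCat.ofHom (Ideal.Quotient.mk _)
    haveI : IsClosedImmersion (Spec.map qk) := IsClosedImmersion.spec_of_surjective _ Ideal.Quotient.mk_surjective
    have hr : Set.range (Spec.map qk ≫ π.hom).base ⊆ Set.range (V₂ (eK.symm k)).ι.base := by
      rintro _ ⟨Q, rfl⟩
      rw [Scheme.Opens.range_ι]
      refine (hmem k ((Spec.map qk).base Q)).mpr fun hk => ?_
      have h1 : (1 - e k) ∈ ((Spec.map qk).base Q).asIdeal := by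
        change qk.hom (1 - e k) ∈ Q.asIdeal
        rw [show qk.hom (1 - e k) = 0 from Ideal.Quotient.eq_zero_iff_mem.mpr (Ideal.mem_span_singleton_self _)]
        exact Q.asIdeal.zero_mem
      exact ((Spec.map qk).base Q).isPrime.ne_top
        ((Ideal.eq_top_iff_one _).mpr (by simpa using Ideal.add_mem _ h1 hk))
    let l := IsOpenImmersion.lift (V₂ (eK.symm k)).ι (Spec.map qk ≫ π.hom) hr
    haveI : IsClosedImmersion (l ≫ (V₂ (eK.symm k)).ι) := by
      rw [IsOpenImmersion.lift_fac]; infer_instance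
    haveI : IsClosedImmersion l := IsClosedImmersion.of_comp l (V₂ (eK.symm k)).ι
    haveI := (h₂.1 (eK.symm k)).1
    let ψ : R' ⟶ CommRingCat.of (T ⧸ Ideal.span {1 - e k}) :=
      CommRingCat.ofHom ((Ideal.Quotient.mk (Ideal.span {1 - e k})).comp (algebraMap R' T))
    have hψ : Spec.map ψ = l ≫ (V₂ (eK.symm k)).ι ≫ pullback.snd f G := by
      rw [IsOpenImmersion.lift_fac_assoc, Category.assoc, hπ2, ← Spec.map_comp]
      rfl
    haveI : IsClosedImmersion (Spec.map ψ) := by rw [hψ]; infer_instance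
    exact surjective_of_isClosedImmersion ψ
  · obtain ⟨w, hw, hw1, hw2⟩ := (h₂.1 (eK.symm k)).2.2
    obtain ⟨Q, rfl⟩ : ∃ Q, π.hom.base Q = w := ⟨π.inv.base w, by
      rw [← Scheme.Hom.comp_apply, π.inv_hom_id]; rfl⟩
    exact ⟨Q.asIdeal, Q.isPrime, (hmem k Q).mp hw,
      congrArg PrimeSpectrum.asIdeal ((hπb2 Q).symm.trans hw1),
      congrArg PrimeSpectrum.asIdeal ((hπb1 Q).symm.trans hw2)⟩
  · intro Q hQ i h1 h2
    obtain ⟨k, hk, hkQ⟩ := h₂.2.2 (π.hom.base ⟨Q, hQ⟩) i
      ((hπb2 _).trans (PrimeSpectrum.ext h1)) ((hπb1 _).trans (PrimeSpectrum.ext h2))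
    exact ⟨eK k, by simp [hk], (hmem (eK k) ⟨Q, hQ⟩).mp (by rwa [Equiv.symm_apply_apply])⟩
  · intro i
    obtain ⟨Q, h1, h2⟩ := exists_preimage sq p' (x i) (by
      rw [← hφ]; exact hp'.trans (hs i).symm)
    exact ⟨Q.asIdeal, Q.isPrime, congrArg PrimeSpectrum.asIdeal h1, congrArg PrimeSpectrum.asIdeal h2⟩

/-- Idempotents split off a product. -/
noncomputable def splitEquiv {A T : Type u} [CommRing A] [CommRing T] [Algebra A T] {n : ℕ} (e : Fin n → T)
    (he : OrthogonalIdempotents e) :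
    T ≃ₐ[A] (∀ k, T ⧸ Ideal.span {1 - e k}) × (T ⧸ Ideal.span {∑ k, e k}) :=
  AlgEquiv.ofBijective ((AlgHom.pi fun k => Ideal.Quotient.mkₐ A _).prod (Ideal.Quotient.mkₐ A _)) <| by
    classical
    refine ⟨(injective_iff_map_eq_zero _).mpr fun x hx => ?_, fun ⟨a, b⟩ => ?_⟩
    · obtain ⟨h1, h2⟩ := Prod.ext_iff.mp hx
      have h1' : ∀ k, e k * x = 0 := fun k => by
        obtain ⟨c, rfl⟩ := Ideal.mem_span_singleton.mp (Ideal.Quotient.eq_zero_iff_mem.mp (congrFun h1 k))
        rw [← mul_assoc, mul_sub, mul_one, (he.idem k).eq, sub_self, zero_mul]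
      obtain ⟨c, rfl⟩ := Ideal.mem_span_singleton.mp (Ideal.Quotient.eq_zero_iff_mem.mp h2)
      have : (∑ k, e k) * ((∑ k, e k) * c) = 0 := by
        rw [Finset.sum_mul]; exact Finset.sum_eq_zero fun k _ => h1' k
      rwa [← mul_assoc, (he.isIdempotentElem_sum).eq] at this
    · choose a' ha' using fun k => Ideal.Quotient.mk_surjective (a k)
      obtain ⟨b', hb'⟩ := Ideal.Quotient.mk_surjective b
      refine ⟨∑ k, e k * a' k + (1 - ∑ k, e k) * b', Prod.ext (funext fun j => ?_) ?_⟩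
      · refine Eq.trans ?_ (ha' j)
        change Ideal.Quotient.mk _ _ = _
        rw [Ideal.Quotient.eq, Ideal.mem_span_singleton]
        refine ⟨∑ k, e k * a' k + (1 - ∑ k, e k) * b' - a' j, ?_⟩
        have h1 : e j * (∑ k, e k * a' k) = e j * a' j := by
          rw [Finset.mul_sum, Finset.sum_eq_single j]
          · rw [← mul_assoc, (he.idem j).eq]
          · intro k _ hk; rw [← mul_assoc, he.ortho (Ne.symm hk), zero_mul]
          · simp
        have h2 : e j * ((1 - ∑ k, e k) * b') = 0 := by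
          rw [← mul_assoc, mul_sub, mul_one, he.mul_sum_of_mem (Finset.mem_univ j), sub_self, zero_mul]
        linear_combination h1 + h2
      · refine Eq.trans ?_ hb'
        change Ideal.Quotient.mk _ _ = _
        rw [Ideal.Quotient.eq, Ideal.mem_span_singleton]
        refine ⟨(∑ k, e k * a' k) - b', ?_⟩
        have h3 : (∑ k, e k) * (∑ k, e k * a' k) = ∑ k, e k * a' k := by
          rw [Finset.mul_sum]
          refine Finset.sum_congr rfl fun j _ => ?_
          rw [← mul_assoc, mul_comm (∑ k, e k), he.mul_sum_of_mem (Finset.mem_univ j)]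
        linear_combination -h3

theorem map_isPrime_and_comap {A B : Type u} [CommRing A] [CommRing B] [Algebra A B]
    (hs : Function.Surjective (algebraMap A B)) (Q : Ideal B) [Q.IsPrime] :
    ((Q.comap (algebraMap A B)).map (algebraMap A B)).IsPrime ∧
      ((Q.comap (algebraMap A B)).map (algebraMap A B)).comap (algebraMap A B) = Q.comap (algebraMap A B) := by
  rw [Ideal.map_comap_of_surjective _ hs]
  exact ⟨inferInstance, rfl⟩

end EtLocLib
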