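import Mathlib
import Groth.Agent.EtLocLib.Algebra
import Groth.Agent.EtLocLib.Finite
/-!
# Splitting off the finite parts of a finite type algebra, elementary etale locally
-/

set_option autoImplicit false
universe u
open CategoryTheory CategoryTheory.Limits AlgebraicGeometry TensorProduct IsLocalRing

namespace EtLocLib

theorem finite_setOf_isOpen_singleton (Z : Type*) [TopologicalSpace Z] [TopologicalSpace.NoetherianSpace Z] :
    {x : Z | IsOpen ({x} : Set Z)}.Finite :=
  (TopologicalSpace.NoetherianSpace.isCompact _).finite <| by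
    rw [isDiscrete_iff_discreteTopology, discreteTopology_iff_isOpen_singleton]
    rintro ⟨a, ha⟩
    convert ha.preimage continuous_subtype_val using 1
    ext b
    simp [Subtype.ext_iff]

theorem closure_eq_top_of_surjective {R A : CommRingCat.{u}} (φ : R ⟶ A) (P : Spec A)
    (h : Function.Surjective ((Spec.map φ).residueFieldMap P)) :
    Subfield.closure (Set.range fun r : R => algebraMap A P.asIdeal.ResidueField (φ r)) = ⊤ := by
  refine top_le_iff.mp fun y _ => ?_
  let p : Spec R := (Spec.map φ).base P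
  let χ := (Scheme.Spec.residueFieldIso R p).inv ≫ (Spec.map φ).residueFieldMap P ≫
    (Scheme.Spec.residueFieldIso A P).hom
  have hχ : ∀ r : R, χ.hom (algebraMap R p.asIdeal.ResidueField r) = algebraMap A _ (φ r) := fun r => by
    have h0 : CommRingCat.ofHom (algebraMap R p.asIdeal.ResidueField) ≫ χ =
        φ ≫ CommRingCat.ofHom (algebraMap A P.asIdeal.ResidueField) := by
      simp only [χ]
      rw [← Category.assoc, ← Category.assoc, ← Iso.eq_comp_inv, Category.assoc, Category.assoc]
      rw [Scheme.Spec.algebraMap_residueFieldIso_inv_assoc, Scheme.Spec.algebraMap_residueFieldIso_inv]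
      rw [reassoc_of% (Scheme.ΓSpecIso_inv_naturality φ)]
      congr 1
      have := Scheme.Γevaluation_naturality (Spec.map φ) P
      simpa only [Scheme.Γevaluation, Scheme.evaluation, Category.assoc] using this
    exact congr($(h0) r)
  have hχs : Function.Surjective χ.hom := fun z => by
    obtain ⟨w, hw⟩ := h ((Scheme.Spec.residueFieldIso A P).inv.hom z)
    refine ⟨(Scheme.Spec.residueFieldIso R p).hom.hom w, ?_⟩
    simp only [χ, CommRingCat.hom_comp, RingHom.comp_apply]
    rw [show (Scheme.Spec.residueFieldIso R p).inv.hom ((Scheme.Spec.residueFieldIso R p).hom.hom w) = w from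
      congr($((Scheme.Spec.residueFieldIso R p).hom_inv_id) w), hw]
    exact congr($((Scheme.Spec.residueFieldIso A P).inv_hom_id) z)
  obtain ⟨z, rfl⟩ := hχs y
  obtain ⟨a, b, hb, rfl⟩ := IsFractionRing.div_surjective (R ⧸ p.asIdeal) z
  obtain ⟨a, rfl⟩ := Ideal.Quotient.mk_surjective a
  obtain ⟨b, rfl⟩ := Ideal.Quotient.mk_surjective b
  rw [← Ideal.Quotient.algebraMap_eq, ← IsScalarTower.algebraMap_apply,
    ← IsScalarTower.algebraMap_apply, map_div₀, hχ, hχ]
  exact div_mem (Subfield.subset_closure ⟨a, rfl⟩) (Subfield.subset_closure ⟨b, rfl⟩)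

theorem exists_finite_parts (R S : Type u) [CommRing R] [CommRing S] [Algebra R S] [Algebra.FiniteType R S]
    (p : Ideal R) [p.IsPrime] :
    ∃ (R' : Type u) (_ : CommRing R') (_ : Algebra R R') (_ : Algebra.Etale R R') (p' : Ideal R')
      (_ : p'.IsPrime) (_ : p'.LiesOver p) (n : ℕ) (e : Fin n → R' ⊗[R] S),
      Subfield.closure (Set.range (algebraMap R p'.ResidueField)) = ⊤ ∧ OrthogonalIdempotents e ∧
      (∀ k, Module.Finite R' ((R' ⊗[R] S) ⧸ Ideal.span {1 - e k}) ∧
        ∃! r : Ideal ((R' ⊗[R] S) ⧸ Ideal.span {1 - e k}),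
          r.IsPrime ∧ r.comap (algebraMap R' _) = p') ∧
      ∀ (q : Ideal ((R' ⊗[R] S) ⧸ Ideal.span {∑ k, e k})) [q.IsPrime],
        q.comap (algebraMap R' _) = p' → ¬ Algebra.QuasiFiniteAt R' q := by
  classical
  let f : Spec (CommRingCat.of S) ⟶ Spec (CommRingCat.of R) := Spec.map (CommRingCat.ofHom (algebraMap R S))
  haveI : LocallyOfFiniteType f := (HasRingHomProperty.Spec_iff (P := @LocallyOfFiniteType)).2
    (RingHom.finiteType_algebraMap.2 inferInstance)
  haveI : IsAffineHom f := inferInstance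
  haveI : IsSeparated f := inferInstance
  let s : Spec (CommRingCat.of R) := ⟨p, ‹_›⟩
  haveI : CompactSpace ↥(f.fiber s) := by
    haveI : IsAffine (f.fiber s) := inferInstanceAs (IsAffine (pullback f _))
    infer_instance
  haveI : LocallyOfFiniteType (f.fiberToSpecResidueField s) :=
    MorphismProperty.pullback_snd _ _ inferInstance
  haveI : IsLocallyNoetherian (f.fiber s) :=
    LocallyOfFiniteType.isLocallyNoetherian (f.fiberToSpecResidueField s)
  haveI : IsNoetherian (f.fiber s) := {}
  let J : Finset ↥(Spec (CommRingCat.of S)) :=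
    ((finite_setOf_isOpen_singleton ↥(f.fiber s)).image (f.fiberι s).base).toFinset
  have hJ : ∀ x, x ∈ J ↔ f.base x = s ∧ f.QuasiFiniteAt x := fun x => by
    simp only [J, Set.Finite.mem_toFinset, Set.mem_image, Set.mem_ofPred_eq]
    suffices H : ∀ s₀, (∃ x' : ↥(f.fiber s₀), IsOpen ({x'} : Set ↥(f.fiber s₀)) ∧ (f.fiberι s₀).base x' = x) ↔
        f.base x = s₀ ∧ f.QuasiFiniteAt x from H s
    refine fun s₀ => ⟨?_, ?_⟩
    · rintro ⟨x', hx', hy⟩
      obtain rfl : f.base x = s₀ := by
        have := Set.mem_range_self (f := (f.fiberι s₀).base) x'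
        rwa [Scheme.Hom.range_fiberι, Set.mem_preimage, Set.mem_singleton_iff, hy] at this
      have : x' = f.asFiber x :=
        (f.fiberι (f x)).isEmbedding.injective (hy.trans (f.fiberι_asFiber x).symm)
      exact ⟨rfl, Scheme.Hom.quasiFiniteAt_iff_isOpen_singleton_asFiber.mpr (this ▸ hx')⟩
    · rintro ⟨rfl, hq⟩
      exact ⟨f.asFiber x, Scheme.Hom.quasiFiniteAt_iff_isOpen_singleton_asFiber.mp hq, f.fiberι_asFiber x⟩
  obtain ⟨U, g, hg, σ, hσ, m, W, hW, hcov⟩ := exists_elementary_family f s J fun x hx => (hJ x).mp hx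
  obtain ⟨eJ⟩ : Nonempty ({x // x ∈ J} ≃ Fin J.card) := ⟨J.equivFin⟩
  choose k v hv hvu hvx huniq using fun i : Fin J.card => hcov (eJ.symm i).1 (eJ.symm i).2
  obtain ⟨hgu, hbij⟩ := bijective_of_section g σ hσ
  let u := σ.base (closedPoint _)
  have hcl : ∀ i, IsClosed (W (k i) : Set ↥(pullback f g)) := fun i => by
    haveI := hW (k i)
    haveI : IsFinite (W (k i)).ι := IsFinite.of_comp _ (pullback.snd f g)
    have hh := (W (k i)).ι.isClosedMap.isClosed_range
    rwa [Scheme.Opens.range_ι] at hh
  let Bad : Set U := ⋃ (i : {i : Fin J.card × Fin J.card // i.1 ≠ i.2}),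
    (pullback.snd f g).base '' ((W (k i.1.1) : Set ↥(pullback f g)) ∩ W (k i.1.2))
  have hBad : IsClosed Bad := isClosed_iUnion_of_finite fun i => by
    haveI := hW (k i.1.1)
    exact WeightLib.isClosed_image_opens_inter (pullback.snd f g) (W (k i.1.1)) (hcl i.1.2)
  have huBad : u ∉ Bad := by
    simp only [Bad, Set.mem_iUnion]
    rintro ⟨⟨⟨i, j⟩, hij⟩, w, ⟨hwi, hwj⟩, hwu⟩
    have h1 := huniq i w hwi hwu
    have h2 := huniq j w hwj hwu
    have h3 : (eJ.symm i).1 = (eJ.symm j).1 := by rw [← hvx i, ← hvx j, ← h1, ← h2]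
    exact hij (eJ.symm.injective (Subtype.ext h3))
  obtain ⟨_, ⟨O : U.Opens, hO, rfl⟩, huO, hOBad⟩ :=
    U.isBasis_affineOpens.exists_subset_of_mem_open huBad hBad.isOpen_compl
  have hO : IsAffineOpen O := hO
  let R' := Γ(U, O)
  let h : Spec R' ⟶ U := hO.fromSpec
  let u' : Spec R' := hO.primeIdealOf ⟨u, huO⟩
  have hu' : h.base u' = u := hO.fromSpec_primeIdealOf _
  let G : Spec R' ⟶ Spec (CommRingCat.of R) := h ≫ g
  obtain ⟨φ, hφ⟩ := Spec.map_surjective G
  letI : Algebra R R' := φ.hom.toAlgebra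
  haveI : Algebra.Etale R R' := by
    have : Etale (Spec.map φ) := hφ ▸ inferInstanceAs (Etale (h ≫ g))
    exact RingHom.etale_algebraMap.mp ((HasRingHomProperty.Spec_iff (P := @Etale)).mp this)
  let T := R' ⊗[R] S
  have sq : IsPullback (Spec.map (CommRingCat.ofHom (Algebra.TensorProduct.includeLeftRingHom (R := R) (A := R') (B := S))))
      (Spec.map (CommRingCat.ofHom (Algebra.TensorProduct.includeRight (R := R) (A := R') (B := S)).toRingHom))
      G f := by
    rw [← hφ]
    exact isPullback_SpecMap_of_isPushout _ _ _ _ (CommRingCat.isPushout_tensorProduct R R' S)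
  let π := sq.flip.isoPullback
  have hπ2 : π.hom ≫ pullback.snd f G =
      Spec.map (CommRingCat.ofHom (Algebra.TensorProduct.includeLeftRingHom (R := R) (A := R') (B := S))) :=
    sq.flip.isoPullback_hom_snd
  haveI : IsOpenImmersion (proj f g h) :=
    MorphismProperty.of_isPullback (isPullback_proj f g h).flip (inferInstanceAs (IsOpenImmersion h))
  let W' : Fin J.card → (pullback f G).Opens := fun i => proj f g h ⁻¹ᵁ W (k i)
  have hW' : ∀ i, IsFinite ((W' i).ι ≫ pullback.snd f G) := fun i => by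
    haveI := hW (k i)
    exact WeightLib.isFinite_restrict (isPullback_proj f g h) (W (k i))
  have hdisj : ∀ i j, i ≠ j → ∀ w, w ∈ W' i → w ∈ W' j → False := fun i j hij w hi hj => by
    have hmem : (pullback.snd f g).base ((proj f g h).base w) ∈ Bad :=
      Set.mem_iUnion.mpr ⟨⟨(i, j), hij⟩, _, ⟨hi, hj⟩, rfl⟩
    refine hOBad ?_ hmem
    rw [← Scheme.Hom.comp_apply, pullback.lift_snd, Scheme.Hom.comp_apply, ← hO.range_fromSpec]
    exact ⟨_, rfl⟩
  have hfstP : ∀ w, (pullback.fst f g).base ((proj f g h).base w) = (pullback.fst f G).base w := fun w => by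
    rw [← Scheme.Hom.comp_apply, pullback.lift_fst]
  have hsndP : ∀ w, (pullback.snd f g).base ((proj f g h).base w) = h.base ((pullback.snd f G).base w) := fun w => by
    rw [← Scheme.Hom.comp_apply, pullback.lift_snd, Scheme.Hom.comp_apply]
  have hsndu : ∀ w, (pullback.snd f G).base w = u' → (pullback.snd f g).base ((proj f g h).base w) = u :=
    fun w hw => by rw [hsndP, hw, hu']
  let D : Fin J.card → (Spec (CommRingCat.of T)).Opens := fun i => π.hom ⁻¹ᵁ W' i
  have hDc : ∀ i, IsClopen (show Set (PrimeSpectrum T) from SetLike.coe (D i)) := fun i =>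
    ⟨((hcl i).preimage (proj f g h).continuous).preimage π.hom.continuous, (D i).2⟩
  choose e hei heD using fun i => PrimeSpectrum.isClopen_iff.mp (hDc i)
  have hmem : ∀ i (Q : PrimeSpectrum T), π.hom.base Q ∈ W' i ↔ e i ∉ Q.asIdeal := fun i Q =>
    Set.ext_iff.mp (heD i) Q
  have hπb2 : ∀ Q : PrimeSpectrum T, ((pullback.snd f G).base (π.hom.base Q)) =
      Q.comap (Algebra.TensorProduct.includeLeftRingHom (R := R) (A := R') (B := S)) := fun Q => by
    rw [← Scheme.Hom.comp_apply, hπ2]; rfl
  have hp : u'.asIdeal.comap φ.hom = p := by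
    have h0 : (Spec.map φ).base u' = s := by
      rw [hφ, Scheme.Hom.comp_apply, hu']; exact hgu
    exact congrArg PrimeSpectrum.asIdeal h0
  have hoi : OrthogonalIdempotents e := ⟨hei, fun i j hij => by
    have hnil : IsNilpotent (e i * e j) := by
      rw [nilpotent_iff_mem_prime]
      intro Q hQ
      by_contra hc
      exact hdisj i j hij (π.hom.base ⟨Q, hQ⟩)
        ((hmem i ⟨Q, hQ⟩).mpr fun h => hc (Q.mul_mem_right _ h))
        ((hmem j ⟨Q, hQ⟩).mpr fun h => hc (Q.mul_mem_left _ h))
    exact (IsIdempotentElem.mul (hei i) (hei j)).eq_zero_of_isNilpotent hnil⟩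
  refine ⟨R', inferInstance, inferInstance, inferInstance, u'.asIdeal, u'.isPrime, ⟨hp.symm⟩,
    J.card, e, ?_, hoi, fun i => ⟨?_, ?_⟩, ?_⟩
  · have hs : Function.Surjective ((Spec.map φ).residueFieldMap u') := by
      rw [hφ]
      show Function.Surjective ((h ≫ g).residueFieldMap u')
      rw [Scheme.residueFieldMap_comp]
      have hb1 : Function.Surjective (h.residueFieldMap u') :=
        ((ConcreteCategory.isIso_iff_bijective (h.residueFieldMap u')).mp inferInstance).2
      have hb2 : Function.Surjective (g.residueFieldMap (h.base u')) := by rw [hu']; exact hbij.2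
      exact hb1.comp hb2
    rw [show Set.range (algebraMap R u'.asIdeal.ResidueField) = Set.range (fun r : R => algebraMap R' u'.asIdeal.ResidueField (φ r))
      from congrArg Set.range (funext fun r => IsScalarTower.algebraMap_apply R R' _ r)]
    exact closure_eq_top_of_surjective φ u' hs
  · let qk : CommRingCat.of T ⟶ CommRingCat.of (T ⧸ Ideal.span {1 - e i}) :=
      CommRingCat.ofHom (Ideal.Quotient.mk _)
    haveI : IsClosedImmersion (Spec.map qk) := IsClosedImmersion.spec_of_surjective _ Ideal.Quotient.mk_surjective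
    have hr : Set.range (Spec.map qk ≫ π.hom).base ⊆ Set.range (W' i).ι.base := by
      rintro _ ⟨Q, rfl⟩
      rw [Scheme.Opens.range_ι]
      refine (hmem i ((Spec.map qk).base Q)).mpr fun hk => ?_
      have h1 : (1 - e i) ∈ ((Spec.map qk).base Q).asIdeal := by
        change qk.hom (1 - e i) ∈ Q.asIdeal
        rw [show qk.hom (1 - e i) = 0 from Ideal.Quotient.eq_zero_iff_mem.mpr (Ideal.mem_span_singleton_self _)]
        exact Q.asIdeal.zero_mem
      exact ((Spec.map qk).base Q).isPrime.ne_top
        ((Ideal.eq_top_iff_one _).mpr (by simpa using Ideal.add_mem _ h1 hk))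
    let l := IsOpenImmersion.lift (W' i).ι (Spec.map qk ≫ π.hom) hr
    haveI : IsClosedImmersion (l ≫ (W' i).ι) := by
      rw [IsOpenImmersion.lift_fac]; infer_instance
    haveI : IsClosedImmersion l := IsClosedImmersion.of_comp l (W' i).ι
    haveI := hW' i
    let ψ : R' ⟶ CommRingCat.of (T ⧸ Ideal.span {1 - e i}) :=
      CommRingCat.ofHom (algebraMap R' (T ⧸ Ideal.span {1 - e i}))
    have hψ : Spec.map ψ = l ≫ (W' i).ι ≫ pullback.snd f G := by
      rw [IsOpenImmersion.lift_fac_assoc, Category.assoc, hπ2, ← Spec.map_comp]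
      rfl
    have : IsFinite (Spec.map ψ) := by rw [hψ]; infer_instance
    exact RingHom.finite_algebraMap.mp ((IsFinite.SpecMap_iff ψ).mp this)
  · -- the unique prime over `p'`
    obtain ⟨w, hw1, hw2⟩ := exists_preimage (isPullback_proj f g h) (v i) u' ((hvu i).trans hu'.symm)
    obtain ⟨Q, rfl⟩ : ∃ Q, π.hom.base Q = w := ⟨π.inv.base w, by
      rw [← Scheme.Hom.comp_apply, π.inv_hom_id]; rfl⟩
    have hQe : e i ∉ Q.asIdeal := (hmem i Q).mp (by
      show (proj f g h).base (π.hom.base Q) ∈ W (k i)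
      rw [hw1]; exact hv i)
    have hle : Ideal.span {1 - e i} ≤ Q.asIdeal := by
      rw [Ideal.span_singleton_le_iff_mem]
      exact (Q.isPrime.mem_or_mem (show e i * (1 - e i) ∈ Q.asIdeal by
        rw [mul_sub, mul_one, (hei i).eq, sub_self]; exact Q.asIdeal.zero_mem)).resolve_left hQe
    haveI : (Q.asIdeal.map (Ideal.Quotient.mk (Ideal.span {1 - e i}))).IsPrime :=
      Ideal.map_isPrime_of_surjective Ideal.Quotient.mk_surjective (by rwa [Ideal.mk_ker])
    have hback : (Q.asIdeal.map (Ideal.Quotient.mk (Ideal.span {1 - e i}))).comap (Ideal.Quotient.mk _) =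
        Q.asIdeal := by
      rw [Ideal.comap_map_of_surjective' _ Ideal.Quotient.mk_surjective, Ideal.mk_ker, sup_eq_left.mpr hle]
    have hQp : Q.asIdeal.comap (algebraMap R' T) = u'.asIdeal :=
      congrArg PrimeSpectrum.asIdeal ((hπb2 Q).symm.trans hw2)
    refine ⟨_, ⟨‹_›, ?_⟩, fun r ⟨hr, hrp⟩ => ?_⟩
    · rw [IsScalarTower.algebraMap_eq R' T, Ideal.Quotient.algebraMap_eq, ← Ideal.comap_comap, hback, hQp]
    · let Q' : PrimeSpectrum T := ⟨r.comap (Ideal.Quotient.mk _), inferInstance⟩
      have hQ'e : e i ∉ Q'.asIdeal := fun hmem' => by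
        have h1 : Ideal.Quotient.mk (Ideal.span {1 - e i}) (e i) = 1 :=
          ((Ideal.Quotient.eq).mpr (Ideal.mem_span_singleton_self (1 - e i))).symm
        exact hr.ne_top ((Ideal.eq_top_iff_one _).mpr (h1 ▸ hmem'))
      have hQ'u : (pullback.snd f G).base (π.hom.base Q') = u' := by
        rw [hπb2]
        exact PrimeSpectrum.ext (by
          show (r.comap (Ideal.Quotient.mk _)).comap (algebraMap R' T) = _
          rw [Ideal.comap_comap]; exact hrp)
      have he1 : (proj f g h).base (π.hom.base Q') = (proj f g h).base (π.hom.base Q) := by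
        rw [hw1]
        exact huniq i _ ((hmem i Q').mpr hQ'e) (hsndu _ hQ'u)
      have hQQ : Q' = Q :=
        π.hom.isOpenEmbedding.injective ((proj f g h).isOpenEmbedding.injective he1)
      apply Ideal.comap_injective_of_surjective _ Ideal.Quotient.mk_surjective
      rw [hback, ← hQQ]
  · intro q _ hqp hqf
    let E := ∑ i, e i
    have hEi : IsIdempotentElem E := hoi.isIdempotentElem_sum
    let B := T ⧸ Ideal.span {E}
    haveI : IsLocalization.Away (1 - E) B := IsLocalization.away_of_isIdempotentElem hEi.one_sub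
      (by rw [Ideal.Quotient.algebraMap_eq, Ideal.mk_ker, sub_sub_cancel]) Ideal.Quotient.mk_surjective
    let qB : CommRingCat.of T ⟶ CommRingCat.of B := CommRingCat.ofHom (algebraMap T B)
    haveI : IsOpenImmersion (Spec.map qB) := IsOpenImmersion.of_isLocalization (1 - E)
    let ψ : R' ⟶ CommRingCat.of B := CommRingCat.ofHom (algebraMap R' B)
    let Qb : Spec (CommRingCat.of B) := ⟨q, inferInstance⟩
    have hψ : (Spec.map qB ≫ π.hom) ≫ pullback.snd f G = Spec.map ψ := by
      rw [Category.assoc, hπ2, ← Spec.map_comp]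
      rfl
    have hqS : (Spec.map ψ).QuasiFiniteAt Qb := by
      rw [Scheme.Hom.quasiFiniteAt_iff, Spec.fromSpecStalk_eq, ← Spec.map_comp,
        HasRingHomProperty.Spec_iff (P := @LocallyQuasiFinite)]
      have this := RingHom.quasiFinite_algebraMap.mpr hqf
      have h2 : ψ ≫ (Scheme.ΓSpecIso (CommRingCat.of B)).inv ≫ (Spec (CommRingCat.of B)).presheaf.germ ⊤ Qb trivial =
          CommRingCat.ofHom (algebraMap R' (Localization.AtPrime q)) ≫ (Spec.stalkIso (CommRingCat.of B) Qb).inv := by
        rw [← Spec.algebraMap_stalkIso_inv, ← Category.assoc]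
        congr 1
      rw [h2]
      exact RingHom.QuasiFinite.respectsIso.1 _ (Spec.stalkIso (CommRingCat.of B) Qb).symm.commRingCatIsoToRingEquiv this
    rw [← hψ, Scheme.Hom.quasiFiniteAt_comp_iff_of_isOpenImmersion] at hqS
    let w := (Spec.map qB ≫ π.hom).base Qb
    have hwu : (pullback.snd f G).base w = u' := by
      rw [← Scheme.Hom.comp_apply, hψ]; exact PrimeSpectrum.ext hqp
    -- transport quasi-finiteness to `pullback f g` and then to `f`
    let y := (proj f g h).base w
    have hyu : (pullback.snd f g).base y = u := hsndu w hwu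
    have hyq : (pullback.snd f g).QuasiFiniteAt y := by
      haveI : LocallyQuasiFinite h := inferInstanceAs (LocallyQuasiFinite hO.fromSpec)
      have h3 : (pullback.snd f G ≫ h).QuasiFiniteAt w := Scheme.Hom.quasiFiniteAt_comp_iff.mpr hqS
      rw [show pullback.snd f G ≫ h = proj f g h ≫ pullback.snd f g from (pullback.lift_snd _ _ _).symm,
        Scheme.Hom.quasiFiniteAt_comp_iff_of_isOpenImmersion] at h3
      exact h3
    have hopen := Scheme.Hom.quasiFiniteAt_iff_isOpen_singleton_asFiber.mp hyq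
    have key : ∀ (u₀ : U) (hu₀ : (pullback.snd f g).base y = u₀),
        ∃ w₀ : ↥((pullback.snd f g).fiber u₀), IsOpen ({w₀} : Set ↥((pullback.snd f g).fiber u₀)) ∧
          ((pullback.snd f g).fiberι u₀).base w₀ = y := by
      rintro _ rfl
      exact ⟨_, hopen, Scheme.Hom.fiberι_asFiber _ _⟩
    obtain ⟨w₀, hw₀, hw₀y⟩ := key u hyu
    obtain ⟨x₀, hx₀, hx₀y⟩ := fiber_isOpen_singleton_of_section f g σ hσ w₀ hw₀
    rw [hw₀y] at hx₀y
    have hxJ : (pullback.fst f g).base y ∈ J := by
      simp only [J, Set.Finite.mem_toFinset, Set.mem_image, Set.mem_ofPred_eq]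
      exact ⟨x₀, hx₀, hx₀y⟩
    let i := eJ ⟨_, hxJ⟩
    have hyv : y = v i := eq_of_section f g σ hσ hyu (hvu i) (by
      rw [hvx]; simp only [i, Equiv.symm_apply_apply])
    have hyW : π.hom.base ((Spec.map qB).base Qb) ∈ W' i := by
      show (proj f g h).base ((Spec.map qB ≫ π.hom).base Qb) ∈ W (k i)
      rw [show (proj f g h).base ((Spec.map qB ≫ π.hom).base Qb) = y from rfl, hyv]
      exact hv i
    refine (hmem i _).mp hyW ?_
    change algebraMap T B (e i) ∈ q
    have hE : algebraMap T B E = 0 := Ideal.Quotient.eq_zero_iff_mem.mpr (Ideal.mem_span_singleton_self _)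
    rw [← hoi.mul_sum_of_mem (Finset.mem_univ i), map_mul, hE, mul_zero]
    exact q.zero_mem

end EtLocLib
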