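import Mathlib
import Groth.Agent.EtLocLib.FiniteAlgebra
import Groth.Agent.SubmDescLib.Sections
/-!
# Finite parts over Henselian local rings
-/

set_option autoImplicit false
universe u
open CategoryTheory CategoryTheory.Limits AlgebraicGeometry IsLocalRing

namespace EtLocLib

theorem henselianLocalRing_of_isAdicComplete (A : Type u) [CommRing A] [IsLocalRing A]
    [IsAdicComplete (maximalIdeal A) A] : HenselianLocalRing A where
  is_henselian f hf a₀ h₁ h₂ := HenselianRing.is_henselian (I := maximalIdeal A) f hf a₀ h₁ (h₂.map _)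

variable {A : Type u} [CommRing A] [HenselianLocalRing A] {X : Scheme.{u}}
  (f : X ⟶ Spec (CommRingCat.of A))

theorem exists_finite_opens_henselian [LocallyOfFiniteType f] (J : Finset X)
    (hJ : ∀ x ∈ J, f.base x = closedPoint A ∧ f.QuasiFiniteAt x) :
    ∃ (n : ℕ) (W : Fin n → X.Opens), (∀ i, IsFinite ((W i).ι ≫ f)) ∧
      ∀ x ∈ J, ∃ i, x ∈ W i ∧ ∀ y ∈ W i, f.base y = closedPoint A → y = x := by
  let S := Spec (CommRingCat.of A)
  let s : S := closedPoint A
  obtain ⟨U, g, hg, σ, hσ, n, W, hW, hcov⟩ := exists_elementary_family f s J hJ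
  obtain ⟨ψ, hψ⟩ : ∃ ψ : CommRingCat.of A ⟶ CommRingCat.of (S.residueField s : Type u),
      Spec.map ψ = S.fromSpecResidueField s := Spec.map_surjective _
  haveI : IsClosedImmersion (Spec.map ψ) := by
    rw [hψ]
    refine IsClosedImmersion.of_isPreimmersion _ ?_
    rw [Scheme.range_fromSpecResidueField]
    exact isClosed_singleton_closedPoint (R := A)
  have hsurj : Function.Surjective ψ.hom := surjective_of_isClosedImmersion ψ
  obtain ⟨τ, hτ1, hτ2⟩ := SubmDescLib.exists_hensel_section (π := ψ.hom) hsurj g σ (hσ.trans hψ.symm)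
  have hid : IsPullback (𝟙 X) f f (𝟙 S) := IsPullback.of_horiz_isIso ⟨(Category.id_comp f).trans (Category.comp_id f).symm⟩
  obtain ⟨m, hm, hma⟩ := WeightLib.exists_isPullback_map (IsPullback.of_hasPullback f g) hid τ hτ1
  refine ⟨n, fun i => m ⁻¹ᵁ W i, fun i => ?_, fun x hx => ?_⟩
  · haveI := hW i
    exact WeightLib.isFinite_restrict hm (W i)
  obtain ⟨i, w, hw, hwu, hwx, huniq⟩ := hcov x hx
  have hτs : τ.base s = σ.base (closedPoint _) := by
    have h1 := congrArg (fun t => t.base (closedPoint _)) hτ2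
    simp only [Scheme.Hom.comp_apply] at h1
    rw [CommRingCat.ofHom_hom, hψ, Scheme.fromSpecResidueField_apply] at h1
    exact h1
  have hsnd : ∀ y : X, f.base y = s → (pullback.snd f g).base (m.base y) = σ.base (closedPoint _) :=
    fun y hy => by rw [← Scheme.Hom.comp_apply, hm.w, Scheme.Hom.comp_apply, hy, hτs]
  have hfst : ∀ y : X, (pullback.fst f g).base (m.base y) = y := fun y => by
    rw [← Scheme.Hom.comp_apply, hma]; rfl
  refine ⟨i, ?_, fun y hy hys => ?_⟩
  · change m.base x ∈ W i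
    rw [eq_of_section f g σ hσ (hsnd x (hJ x hx).1) hwu ((hfst x).trans hwx.symm)]
    exact hw
  · rw [← hfst y, huniq _ hy (hsnd y hys), hwx]

theorem isClosed_of_isFinite [IsSeparated f] {W : X.Opens} (hW : IsFinite (W.ι ≫ f)) :
    IsClosed (W : Set X) := by
  haveI := hW
  haveI : IsFinite W.ι := IsFinite.of_comp _ f
  have hh := W.ι.isClosedMap.isClosed_range
  rwa [Scheme.Opens.range_ι] at hh

theorem exists_clopen_finite_henselian [LocallyQuasiFinite f] [LocallyOfFiniteType f] [QuasiCompact f]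
    [IsSeparated f] :
    ∃ W : X.Opens, IsClosed (W : Set X) ∧ IsFinite (W.ι ≫ f) ∧
      ∀ x : X, f.base x = closedPoint A → x ∈ W := by
  obtain ⟨n, W, hW, hcov⟩ := exists_finite_opens_henselian f
    (f.finite_preimage_singleton (closedPoint A)).toFinset
    (fun x hx => ⟨by simpa using hx, f.quasiFiniteAt x⟩)
  refine ⟨⨆ i, W i, isClosed_of_isFinite f (isFinite_iSup f W hW), isFinite_iSup f W hW, fun x hx => ?_⟩
  obtain ⟨i, hi, -⟩ := hcov x ((Set.Finite.mem_toFinset _).mpr hx)
  exact TopologicalSpace.Opens.mem_iSup.mpr ⟨i, hi⟩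

end EtLocLib
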