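import Mathlib
/-!
# Equalizers into unramified schemes are open
-/

set_option autoImplicit false
universe u
open CategoryTheory CategoryTheory.Limits AlgebraicGeometry

namespace EtLocLib

variable {X Y S : Scheme.{u}} (p : Y ⟶ S) [FormallyUnramified p] [LocallyOfFiniteType p]
  (f g : X ⟶ Y) (w : f ≫ p = g ≫ p)

/-- The locus where two morphisms into an unramified scheme agree. -/
noncomputable def eqLocus : X.Opens :=
  (pullback.fst (pullback.lift f g w) (pullback.diagonal p)).opensRange

theorem eqLocus_ι_comp : (eqLocus p f g w).ι ≫ f = (eqLocus p f g w).ι ≫ g := by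
  have h0 : pullback.fst (pullback.lift f g w) (pullback.diagonal p) ≫ f =
      pullback.fst (pullback.lift f g w) (pullback.diagonal p) ≫ g := by
    have c := pullback.condition (f := pullback.lift f g w) (g := pullback.diagonal p)
    have c1 := congrArg (· ≫ pullback.fst p p) c
    have c2 := congrArg (· ≫ pullback.snd p p) c
    simp only [Category.assoc, pullback.lift_fst, pullback.lift_snd, pullback.diagonal_fst,
      pullback.diagonal_snd, Category.comp_id] at c1 c2
    exact c1.trans c2.symm
  let j := pullback.fst (pullback.lift f g w) (pullback.diagonal p)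
  show j.opensRange.ι ≫ f = j.opensRange.ι ≫ g
  rw [← cancel_epi j.isoOpensRange.hom, Scheme.Hom.isoOpensRange_hom_ι_assoc,
    Scheme.Hom.isoOpensRange_hom_ι_assoc]
  exact h0

theorem mem_eqLocus_of_comp_eq {T : Scheme.{u}} (t : T ⟶ X) (ht : t ≫ f = t ≫ g) (z : T) :
    t.base z ∈ eqLocus p f g w := by
  refine ⟨(pullback.lift t (t ≫ f) ?_ : T ⟶ pullback (pullback.lift f g w) (pullback.diagonal p)).base z, ?_⟩
  · apply pullback.hom_ext
    · rw [Category.assoc, Category.assoc]
      erw [pullback.lift_fst, pullback.diagonal_fst]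
      rw [Category.comp_id]
    · rw [Category.assoc, Category.assoc]
      erw [pullback.lift_snd, pullback.diagonal_snd]
      rw [Category.comp_id, ht]
  · rw [← Scheme.Hom.comp_apply, pullback.lift_fst]

theorem mem_eqLocus_of_residue (x : X) (h : X.fromSpecResidueField x ≫ f = X.fromSpecResidueField x ≫ g) :
    x ∈ eqLocus p f g w := by
  have := mem_eqLocus_of_comp_eq p f g w _ h (IsLocalRing.closedPoint _)
  rwa [Scheme.fromSpecResidueField_apply] at this

theorem residue_comp_eq (x : X) (h1 : f.base x = g.base x)
    (h2 : f.residueFieldMap x = (Y.residueFieldCongr h1).hom ≫ g.residueFieldMap x) :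
    X.fromSpecResidueField x ≫ f = X.fromSpecResidueField x ≫ g := by
  rw [← Scheme.Hom.SpecMap_residueFieldMap_fromSpecResidueField,
    ← Scheme.Hom.SpecMap_residueFieldMap_fromSpecResidueField, h2, Spec.map_comp, Category.assoc]
  congr 1
  exact Y.residueFieldCongr_fromSpecResidueField h1

theorem isClosed_eqLocus [IsSeparated p] : IsClosed (eqLocus p f g w : Set X) := by
  let j := pullback.fst (pullback.lift f g w) (pullback.diagonal p)
  haveI : IsClosedImmersion j := MorphismProperty.pullback_fst _ _ inferInstance
  exact j.isClosedEmbedding.isClosed_range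

theorem eq_of_eqLocus_eq_top (h : ∀ x, x ∈ eqLocus p f g w) : f = g := by
  have : IsIso (eqLocus p f g w).ι := (isIso_iff_isOpenImmersion_and_surjective _).mpr
    ⟨inferInstance, ⟨fun x => ⟨⟨x, h x⟩, rfl⟩⟩⟩
  exact (cancel_epi (eqLocus p f g w).ι).mp (eqLocus_ι_comp p f g w)

end EtLocLib
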